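import Groth.Agent.HilbConn.Affine
import Groth.Agent.WeilLib.Trdeg
import Mathlib

/-!
# Families and points inside an affine open
-/

set_option autoImplicit false
set_option maxSynthPendingDepth 3
set_option linter.style.haveILetI false
set_option linter.unusedSectionVars false
set_option maxHeartbeats 800000
universe u

open CategoryTheory CategoryTheory.Limits AlgebraicGeometry
open scoped TensorProduct

noncomputable section

namespace Groth.Agent.HilbConn

open Groth.Agent.HilbRep Groth.Agent.Punct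

variable {k : Type u} [Field k] {Y : Scheme.{u}} (f : Y ⟶ Spec (CommRingCat.of k))

/-- Sections over an open, as a `k`-algebra. -/
def Sec (_g : Y ⟶ Spec (CommRingCat.of k)) (D : Y.Opens) : Type u := Γ(Y, D)

instance (D : Y.Opens) : CommRing (Sec f D) := inferInstanceAs (CommRing Γ(Y, D))

instance (D : Y.Opens) : Algebra k (Sec f D) := (WeilLib.secStr f D : k →+* Sec f D).toAlgebra

/-- An affine open. -/
structure Chart (_g : Y ⟶ Spec (CommRingCat.of k)) : Type u where
  D : Y.Opens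
  hD : IsAffineOpen D

variable {f}

namespace Chart

variable (c : Chart f)

/-- Its coordinate ring. -/
abbrev A : Type u := Sec f c.D

instance [LocallyOfFiniteType f] : Algebra.FiniteType k c.A := WeilLib.finiteType_secStr f c.hD

/-- Its inclusion. -/
def ι : Spec (CommRingCat.of c.A) ⟶ Y := c.hD.fromSpec

instance : IsOpenImmersion c.ι := inferInstanceAs (IsOpenImmersion c.hD.fromSpec)

theorem range_ι : Set.range c.ι = (c.D : Set Y) := c.hD.range_fromSpec

theorem ι_f : c.ι ≫ f = f₀ k c.A := by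
  have h := IsAffineOpen.SpecMap_appLE_fromSpec f (isAffineOpen_top (Spec (CommRingCat.of k))) c.hD
    (le_top : c.D ≤ f ⁻¹ᵁ ⊤)
  rw [IsAffineOpen.fromSpec_top, Scheme.isoSpec_Spec_inv, ← Spec.map_comp] at h
  exact h.symm

end Chart

variable [IsSeparated f] {n : ℕ}

section push

variable (c : Chart f) {T : Scheme.{u}} (z : Fam (f₀ k c.A) n T)

theorem push_comm : (z.q ≫ c.ι) ≫ f = z.p ≫ z.g := by
  rw [Category.assoc, c.ι_f]
  exact z.q_f

theorem isClosedImmersion_push : IsClosedImmersion (pullback.lift (z.q ≫ c.ι) z.p (push_comm c z)) := by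
  haveI : IsFinite (pullback.lift (z.q ≫ c.ι) z.p (push_comm c z) ≫ pullback.snd f z.g) := by
    rw [pullback.lift_snd]; infer_instance
  haveI : Mono (pullback.lift (z.q ≫ c.ι) z.p (push_comm c z)) := by
    refine ⟨fun {W} a a' e => ?_⟩
    have hp := congrArg (· ≫ pullback.snd f z.g) e
    have hq := congrArg (· ≫ pullback.fst f z.g) e
    simp only [Category.assoc, pullback.lift_snd, pullback.lift_fst] at hp hq
    simp only [← Category.assoc, cancel_mono] at hq
    refine (cancel_mono (pullback.lift z.q z.p z.q_f)).1 (pullback.hom_ext ?_ ?_)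
    · simp only [Category.assoc, pullback.lift_fst]; exact hq
    · simp only [Category.assoc, pullback.lift_snd]; exact hp
  exact (IsClosedImmersion.iff_isFinite_and_mono _).mpr ⟨IsFinite.of_comp _ (pullback.snd f z.g), inferInstance⟩

/-- A family in an affine open as a family in `Y`. -/
def push : Fam f n T :=
  haveI := isClosedImmersion_push c z
  Fam.ofPair z.g z.p (z.q ≫ c.ι) (push_comm c z) z.mem

@[simp] theorem push_g : (push c z).g = z.g := rfl

theorem exists_iso_push : ∃ e : z.sch ≅ (push c z).sch, e.hom ≫ (push c z).p = z.p ∧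
    e.hom ≫ (push c z).q = z.q ≫ c.ι :=
  haveI := isClosedImmersion_push c z
  Fam.exists_iso_ofPair z.g z.p (z.q ≫ c.ι) (push_comm c z) z.mem

theorem range_push (y : (push c z).sch) : (push c z).q y ∈ c.D := by
  obtain ⟨e, -, hq⟩ := exists_iso_push c z
  have : (push c z).q = e.inv ≫ z.q ≫ c.ι := by rw [← hq, Iso.inv_hom_id_assoc]
  show (push c z).q y ∈ (c.D : Set Y)
  rw [← c.range_ι, this]
  simp only [Scheme.Hom.comp_apply]
  exact ⟨_, rfl⟩

theorem restr_push {T' : Scheme.{u}} (h : T' ⟶ T) : (push c z).restr h = push c (z.restr h) := by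
  obtain ⟨e, hep, heq⟩ := exists_iso_push c z
  obtain ⟨e', hep', heq'⟩ := exists_iso_push c (z.restr h)
  obtain ⟨a, hpb, hq⟩ := z.exists_isPullback_restr h
  refine ((push c z).eq_restr h (by rfl) (e'.inv ≫ a ≫ e.hom) ?_ ?_).symm
  · refine IsPullback.of_iso hpb e' e (Iso.refl _) (Iso.refl _) ?_ ?_ ?_ ?_
    · simp
    · simp only [Iso.refl_hom, Category.comp_id]
      exact hep'.symm
    · simp only [Iso.refl_hom, Category.comp_id]
      exact hep.symm
    · simp
  · rw [Category.assoc, Category.assoc, heq, ← cancel_epi e'.hom, Iso.hom_inv_id_assoc, heq', ← hq]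
    simp

end push

variable (c : Chart f) {B : Type u} [CommRing B] [Algebra k B]

/-- The family in `Y` of an ideal over an affine open. -/
abbrev famY {J : Ideal (B ⊗[k] c.A)} (h : HasBasis n J) : Fam f n (Spec (CommRingCat.of B)) := push c (fam J h)

@[simp] theorem famY_g {J : Ideal (B ⊗[k] c.A)} (h : HasBasis n J) : (famY c h).g = gA k B := rfl

/-- The point of `Y` of a point of an affine open. -/
def ptY (y : c.A →ₐ[k] B) : Spec (CommRingCat.of B) ⟶ Y := Spec.map (CommRingCat.ofHom y.toRingHom) ≫ c.ι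

theorem ptY_f (y : c.A →ₐ[k] B) : ptY c y ≫ f = gA k B := by
  rw [ptY, Category.assoc, c.ι_f, f₀, gA, ← Spec.map_comp]
  congr 1
  ext r
  exact y.commutes r

theorem ptY_restr {C : Type u} [CommRing C] [Algebra k C] (φ : B →ₐ[k] C) (y : c.A →ₐ[k] B) :
    ptY c (φ.comp y) = Spec.map (CommRingCat.ofHom φ.toRingHom) ≫ ptY c y := by
  rw [ptY, ptY, ← Category.assoc, ← Spec.map_comp]
  rfl

theorem famY_restr {C : Type u} [CommRing C] [Algebra k C] (φ : B →ₐ[k] C) {J : Ideal (B ⊗[k] c.A)}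
    (h : HasBasis n J) :
    (famY c h).restr (Spec.map (CommRingCat.ofHom φ.toRingHom)) = famY c (hasBasis_map φ h) := by
  obtain ⟨v, hv⟩ := id h
  rw [famY, famY, restr_push]
  congr 1
  refine (fam_eq_restr φ h (hasBasis_map φ h) (quotMap φ J) ?_ ?_ v hv (bijective_map φ hv)).symm
  · refine RingHom.ext fun b => ?_
    show Ideal.Quotient.mk _ (bc c.A φ (b ⊗ₜ[k] (1 : c.A))) = Ideal.Quotient.mk _ (φ b ⊗ₜ[k] (1 : c.A))
    simp
  · refine RingHom.ext fun a => ?_
    show Ideal.Quotient.mk _ (bc c.A φ ((1 : B) ⊗ₜ[k] a)) = Ideal.Quotient.mk _ ((1 : C) ⊗ₜ[k] a)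
    simp

/-- A point in the open comes from the open. -/
theorem exists_ptY (m : Spec (CommRingCat.of B) ⟶ Y) (hm : m ≫ f = gA k B) (hr : ∀ x, m x ∈ c.D) :
    ∃ y : c.A →ₐ[k] B, ptY c y = m := by
  have hr' : Set.range m ⊆ Set.range c.ι := by
    rw [c.range_ι]
    rintro _ ⟨x, rfl⟩
    exact hr x
  let m₀ := IsOpenImmersion.lift c.ι m hr'
  have hm₀ : m₀ ≫ c.ι = m := IsOpenImmersion.lift_fac _ _ _
  obtain ⟨ψ, hψ⟩ := Spec.map_surjective m₀
  have hcomm : ∀ r : k, ψ.hom (algebraMap k c.A r) = algebraMap k B r := by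
    intro r
    have h1 : Spec.map ψ ≫ f₀ k c.A = gA k B := by
      rw [hψ, ← c.ι_f, ← Category.assoc, hm₀, hm]
    rw [f₀, gA, ← Spec.map_comp] at h1
    exact congrArg (fun φ : CommRingCat.of k ⟶ CommRingCat.of B => φ.hom r) (Spec.map_injective h1)
  refine ⟨{ ψ.hom with commutes' := hcomm }, ?_⟩
  rw [ptY, ← hm₀, ← hψ]
  rfl

/-- Families over a local ring come from ideals. -/
theorem exists_ideal_of_fam_local {R : Type u} [CommRing R] [Algebra k R] [IsLocalRing B]
    (z : Fam (f₀ k R) n (Spec (CommRingCat.of B))) (hg : z.g = gA k B) :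
    ∃ (I : Ideal (B ⊗[k] R)) (h : HasBasis n I), fam I h = z := by
  obtain ⟨g, Z⟩ := z
  subst hg
  let z : Fam (f₀ k R) n (Spec (CommRingCat.of B)) := ⟨gA k B, Z⟩
  let i : z.sch ⟶ Spec (CommRingCat.of (B ⊗[k] R)) :=
    z.Z.1.subschemeι ≫ (pullbackSymmetry (f₀ k R) (gA k B)).hom ≫ (pullbackSpecIso k B R).hom
  haveI : IsClosedImmersion i := by
    dsimp only [i]; infer_instance
  obtain ⟨I, ε, hε⟩ := (IsClosedImmersion.Spec_iff (R := CommRingCat.of (B ⊗[k] R)) (f := i)).1 ‹_›
  have hi : ∀ {B' : Type u} [CommRing B'] (ψ : B' →+* B ⊗[k] R),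
      i ≫ Spec.map (CommRingCat.ofHom ψ) =
        ε.hom ≫ Spec.map (CommRingCat.ofHom ((Ideal.Quotient.mk I).comp ψ)) := by
    intro B' _ ψ
    rw [hε, Category.assoc, ← Spec.map_comp]
    rfl
  have hp : z.p = ε.hom ≫ pMap I := by
    rw [pMap, show algebraMap B ((B ⊗[k] R) ⧸ I) = (Ideal.Quotient.mk I).comp (algebraMap B (B ⊗[k] R)) from rfl,
      ← hi]
    simp only [i, Category.assoc, pullbackSpecIso_hom_fst', pullbackSymmetry_hom_comp_fst]
    rfl
  have hq : z.q = ε.hom ≫ qMap I := by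
    rw [qMap, rHom, ← hi]
    simp only [i, Category.assoc, AlgHom.toRingHom_eq_coe]
    refine congrArg (z.Z.1.subschemeι ≫ ·) ?_
    exact ((congrArg ((pullbackSymmetry (f₀ k R) (gA k B)).hom ≫ ·) (pullbackSpecIso_hom_snd k B R)).trans
      (pullbackSymmetry_hom_comp_snd _ _)).symm
  obtain ⟨⟨h1, h2, h3⟩, hd⟩ : Mor2.IsFinLocFreeOfDeg n z.p := z.mem
  have hp' : pMap I = ε.inv ≫ z.p := by rw [hp, Iso.inv_hom_id_assoc]
  replace h1 : IsFinite (pMap I) := by rw [hp']; infer_instance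
  replace h2 : Flat (pMap I) := by rw [hp']; infer_instance
  rw [hp] at hd
  let Q := (B ⊗[k] R) ⧸ I
  have h1' : (algebraMap B Q).Finite := (IsFinite.SpecMap_iff (f := CommRingCat.ofHom _)).mp h1
  have h2' : (algebraMap B Q).Flat := (Flat.SpecMap_iff (f := CommRingCat.ofHom _)).mp h2
  haveI : Module.Finite B Q := RingHom.finite_algebraMap.mp h1'
  haveI : Module.Flat B Q := RingHom.flat_algebraMap_iff.mp h2'
  haveI : Module.Free B Q := Module.free_of_flat_of_isLocalRing
  have hn : Module.finrank B Q = n := by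
    have hd' := hd (IsLocalRing.closedPoint B)
    rw [Scheme.Hom.finrank_comp_left_of_isIso, pMap, Scheme.Hom.finrank_SpecMap_eq_finrank h1' h2',
      CommRingCat.hom_ofHom, RingHom.finrank_algebraMap, Module.rankAtStalk_eq_finrank_of_free] at hd'
    exact hd'
  let b := Module.finBasisOfFinrankEq B Q hn
  have hB : HasBasis n I := ⟨b, by
    convert b.equivFun.symm.bijective using 1
    funext c
    rw [Module.Basis.equivFun_symm_apply]
    simp [Q, Algebra.smul_def]⟩
  refine ⟨I, hB, ?_⟩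
  obtain ⟨e, hep, heq⟩ := exists_iso_fam I hB
  refine Fam.ext_iso rfl (e.symm ≪≫ ε.symm) ?_ ?_
  · rw [hp, Iso.trans_hom, Category.assoc, Iso.symm_hom, Iso.symm_hom, Iso.inv_hom_id_assoc, ← hep,
      Iso.inv_hom_id_assoc]
  · rw [hq, Iso.trans_hom, Category.assoc, Iso.symm_hom, Iso.symm_hom, Iso.inv_hom_id_assoc, ← heq,
      Iso.inv_hom_id_assoc]

/-- A family over a local ring lying in the open comes from an ideal. -/
theorem exists_famY [IsLocalRing B] (z : Fam f n (Spec (CommRingCat.of B))) (hg : z.g = gA k B)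
    (hr : ∀ w, z.q w ∈ c.D) : ∃ (J : Ideal (B ⊗[k] c.A)) (h : HasBasis n J), famY c h = z := by
  obtain ⟨g, Z⟩ := z
  subst hg
  let z : Fam f n (Spec (CommRingCat.of B)) := ⟨gA k B, Z⟩
  have hr' : Set.range z.q ⊆ Set.range c.ι := by
    rw [c.range_ι]
    rintro _ ⟨x, rfl⟩
    exact hr x
  let q₀ := IsOpenImmersion.lift c.ι z.q hr'
  have hq₀ : q₀ ≫ c.ι = z.q := IsOpenImmersion.lift_fac _ _ _
  have hcomm : q₀ ≫ f₀ k c.A = z.p ≫ gA k B := by
    rw [← c.ι_f, ← Category.assoc, hq₀]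
    exact z.q_f
  haveI : IsClosedImmersion (pullback.lift q₀ z.p hcomm) := by
    haveI : IsFinite (pullback.lift q₀ z.p hcomm ≫ pullback.snd (f₀ k c.A) (gA k B)) := by
      rw [pullback.lift_snd]; infer_instance
    haveI : Mono (pullback.lift q₀ z.p hcomm) := by
      refine ⟨fun {W} a a' e => ?_⟩
      have hp := congrArg (· ≫ pullback.snd (f₀ k c.A) (gA k B)) e
      have hq := congrArg (fun m => (m ≫ pullback.fst (f₀ k c.A) (gA k B)) ≫ c.ι) e
      simp only [Category.assoc, pullback.lift_snd, pullback.lift_fst_assoc, hq₀] at hp hq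
      haveI : IsClosedImmersion (pullback.lift z.q z.p z.q_f) := by rw [Fam.lift_eq]; infer_instance
      haveI : Mono (pullback.lift z.q z.p z.q_f) := inferInstance
      refine (cancel_mono (pullback.lift z.q z.p z.q_f)).1 (pullback.hom_ext ?_ ?_)
      · simp only [Category.assoc, pullback.lift_fst]; exact hq
      · simp only [Category.assoc, pullback.lift_snd]; exact hp
    exact (IsClosedImmersion.iff_isFinite_and_mono _).mpr ⟨IsFinite.of_comp _ (pullback.snd (f₀ k c.A) (gA k B)), inferInstance⟩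
  let z₀ : Fam (f₀ k c.A) n (Spec (CommRingCat.of B)) := Fam.ofPair (gA k B) z.p q₀ hcomm z.mem
  obtain ⟨I, hI, e⟩ := exists_ideal_of_fam_local z₀ rfl
  refine ⟨I, hI, ?_⟩
  show push c (fam I hI) = z
  rw [e]
  obtain ⟨e₀, hp₀, hq₀'⟩ := Fam.exists_iso_ofPair (gA k B) z.p q₀ hcomm z.mem
  obtain ⟨e₁, hp₁, hq₁⟩ := exists_iso_push c z₀
  refine Fam.ext_iso rfl (e₁.symm ≪≫ e₀.symm) ?_ ?_
  · rw [Iso.trans_hom, Category.assoc, Iso.symm_hom, Iso.symm_hom, ← hp₀, Iso.inv_hom_id_assoc]
    exact ((Iso.inv_comp_eq _).2 hp₁.symm)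
  · rw [Iso.trans_hom, Category.assoc, Iso.symm_hom, Iso.symm_hom, ← hq₀, ← hq₀', Category.assoc,
      Iso.inv_hom_id_assoc]
    exact ((Iso.inv_comp_eq _).2 hq₁.symm)

variable (c' : Chart f) (hle : c'.D ≤ c.D)

/-- Restriction to a smaller affine open. -/
def resAlg : c.A →ₐ[k] c'.A :=
  { (Y.presheaf.map (homOfLE hle).op).hom with
    commutes' := fun r => by
      have h : WeilLib.secStr f c'.D = (Y.presheaf.map (homOfLE hle).op).hom.comp (WeilLib.secStr f c.D) := by
        rw [WeilLib.secStr, WeilLib.secStr, ← CommRingCat.hom_comp, Category.assoc,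
          f.appLE_map (U := ⊤) (V := c.D) le_top (homOfLE hle).op]
      exact (RingHom.congr_fun h r).symm }

theorem resAlg_ι : Spec.map (CommRingCat.ofHom (resAlg c c' hle).toRingHom) ≫ c.ι = c'.ι :=
  c.hD.map_fromSpec c'.hD (homOfLE hle).op

theorem ptY_res (y : c'.A →ₐ[k] B) : ptY c' y = ptY c (y.comp (resAlg c c' hle)) := by
  rw [ptY, ptY, ← resAlg_ι c c' hle, ← Category.assoc, ← Spec.map_comp]
  rfl

theorem eq_of_ptY_eq {y y' : c.A →ₐ[k] B} (h : ptY c y = ptY c y') : y = y' := by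
  rw [ptY, ptY, cancel_mono] at h
  exact AlgHom.ext fun a => RingHom.congr_fun (congrArg CommRingCat.Hom.hom (Spec.map_injective h)) a

/-- The change of chart on `B ⊗ A`. -/
abbrev resB : B ⊗[k] c.A →ₐ[k] B ⊗[k] c'.A := Algebra.TensorProduct.map (AlgHom.id k B) (resAlg c c' hle)

theorem comap_eq_of_famY_eq {J : Ideal (B ⊗[k] c.A)} {J' : Ideal (B ⊗[k] c'.A)} (h : HasBasis n J)
    (h' : HasBasis n J') (e : famY c h = famY c' h') : J'.comap (resB c c' hle).toRingHom = J := by
  obtain ⟨a, hap, haq⟩ : ∃ a : (famY c' h').sch ≅ (famY c h).sch,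
      a.hom ≫ (famY c h).p = (famY c' h').p ∧ a.hom ≫ (famY c h).q = (famY c' h').q := by
    rw [← e]
    exact ⟨Iso.refl _, by simp, by simp⟩
  obtain ⟨e₁, hp₁, hq₁⟩ := exists_iso_fam J h
  obtain ⟨e₂, hp₂, hq₂⟩ := exists_iso_push c (fam J h)
  obtain ⟨e₁', hp₁', hq₁'⟩ := exists_iso_fam J' h'
  obtain ⟨e₂', hp₂', hq₂'⟩ := exists_iso_push c' (fam J' h')
  let σ : Spec (CommRingCat.of ((B ⊗[k] c'.A) ⧸ J')) ≅ Spec (CommRingCat.of ((B ⊗[k] c.A) ⧸ J)) :=
    (e₁' ≪≫ e₂') ≪≫ a ≪≫ (e₁ ≪≫ e₂).symm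
  have hE : ((e₁ ≪≫ e₂).hom ≫ (famY c h).p = pMap J) ∧ ((e₁ ≪≫ e₂).hom ≫ (famY c h).q = qMap J ≫ c.ι) := by
    constructor
    · rw [Iso.trans_hom, Category.assoc]
      exact (congrArg (e₁.hom ≫ ·) hp₂).trans hp₁
    · rw [Iso.trans_hom, Category.assoc]
      exact (congrArg (e₁.hom ≫ ·) hq₂).trans (by rw [← Category.assoc, hq₁])
  have hE' : ((e₁' ≪≫ e₂').hom ≫ (famY c' h').p = pMap J') ∧
      ((e₁' ≪≫ e₂').hom ≫ (famY c' h').q = qMap J' ≫ c'.ι) := by
    constructor
    · rw [Iso.trans_hom, Category.assoc]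
      exact (congrArg (e₁'.hom ≫ ·) hp₂').trans hp₁'
    · rw [Iso.trans_hom, Category.assoc]
      exact (congrArg (e₁'.hom ≫ ·) hq₂').trans (by rw [← Category.assoc, hq₁'])
  have hσp : σ.hom ≫ pMap J = pMap J' := by
    rw [← hE.1, ← hE'.1, ← hap]
    simp only [σ, Iso.trans_hom, Iso.symm_hom, Category.assoc, Iso.inv_hom_id_assoc, Iso.trans_inv]
  have hσq : σ.hom ≫ qMap J ≫ c.ι = qMap J' ≫ c'.ι := by
    rw [← hE.2, ← hE'.2, ← haq]
    simp only [σ, Iso.trans_hom, Iso.symm_hom, Category.assoc, Iso.inv_hom_id_assoc, Iso.trans_inv]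
  rw [← resAlg_ι c c' hle, ← Category.assoc, ← Category.assoc, cancel_mono] at hσq
  obtain ⟨τ, hτ⟩ := Spec.map_surjective σ.hom
  rw [← hτ, pMap, pMap, ← Spec.map_comp] at hσp
  rw [← hτ, qMap, qMap, ← Spec.map_comp, ← Spec.map_comp] at hσq
  have hA := congrArg CommRingCat.Hom.hom (Spec.map_injective hσp)
  have hR := congrArg CommRingCat.Hom.hom (Spec.map_injective hσq)
  simp only [CommRingCat.hom_comp, CommRingCat.hom_ofHom] at hA hR
  have key : ∀ x, τ.hom (Ideal.Quotient.mk J x) = Ideal.Quotient.mk J' (resB c c' hle x) := by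
    intro x
    induction x using TensorProduct.induction_on with
    | zero => simp
    | add x y hx hy => simp only [map_add, hx, hy]
    | tmul b a =>
      have e : b ⊗ₜ[k] a = (b ⊗ₜ[k] (1 : c.A)) * ((1 : B) ⊗ₜ[k] a) := by simp
      rw [e, map_mul, map_mul, map_mul, map_mul]
      refine congrArg₂ (· * ·) ?_ ?_
      · have := RingHom.congr_fun hA b
        refine Eq.trans this ?_
        show Ideal.Quotient.mk J' (b ⊗ₜ[k] (1 : c'.A)) = _
        simp
      · have := RingHom.congr_fun hR a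
        refine Eq.trans this ?_
        show Ideal.Quotient.mk J' ((1 : B) ⊗ₜ[k] (resAlg c c' hle a)) = _
        simp
  haveI : IsIso τ := by
    haveI : IsIso (Spec.map τ) := by rw [hτ]; infer_instance
    haveI : IsIso (Scheme.Spec.map τ.op) := ‹IsIso (Spec.map τ)›
    haveI := isIso_of_reflects_iso τ.op Scheme.Spec
    exact inferInstanceAs (IsIso τ.op.unop)
  have hτi : Function.Injective τ.hom := (ConcreteCategory.bijective_of_isIso τ).1
  ext x
  rw [Ideal.mem_comap, ← Ideal.Quotient.eq_zero_iff_mem, ← Ideal.Quotient.eq_zero_iff_mem]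
  show Ideal.Quotient.mk J' (resB c c' hle x) = 0 ↔ _
  rw [← key, map_eq_zero_iff _ hτi]

theorem comap_ker_ev (y : c'.A →ₐ[k] B) :
    (RingHom.ker (ev y)).comap (resB c c' hle).toRingHom = RingHom.ker (ev (y.comp (resAlg c c' hle))) := by
  have h : ∀ x, ev y (resB c c' hle x) = ev (y.comp (resAlg c c' hle)) x := by
    intro x
    induction x using TensorProduct.induction_on with
    | zero => simp
    | add x y hx hy => simp only [map_add, hx, hy]
    | tmul b a => simp
  ext x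
  rw [Ideal.mem_comap, RingHom.mem_ker, RingHom.mem_ker, ← h]
  rfl

end Groth.Agent.HilbConn
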