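import Groth.Prelude.Def_Neron
import Groth.Agent.GrAvoid.Basic
import Groth.Agent.ProjMor.Over
import Mathlib

/-!
# Topology of a connected projective scheme; connectedness through specialisations
-/

set_option autoImplicit false
set_option maxSynthPendingDepth 3
set_option backward.isDefEq.respectTransparency false
set_option backward.isDefEq.respectTransparency.types false
set_option linter.style.haveILetI false
universe u

open CategoryTheory CategoryTheory.Limits AlgebraicGeometry TopologicalSpace

noncomputable section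

namespace Groth.Agent.HilbConn

/-- Linked by a zigzag of specialisations. -/
abbrev Zig {α : Type*} [TopologicalSpace α] : α → α → Prop := Relation.EqvGen (· ⤳ ·)

theorem Zig.component_eq {α : Type*} [TopologicalSpace α] {x y : α} (h : Zig x y) :
    connectedComponent x = connectedComponent y := by
  induction h with
  | rel a b hab =>
    exact connectedComponent_eq (hab.mem_closed isClosed_connectedComponent mem_connectedComponent)
  | refl a => rfl
  | symm a b _ h => exact h.symm
  | trans a b c _ _ h h' => exact h.trans h'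

theorem connectedSpace_of_zig {α : Type*} [TopologicalSpace α] [Nonempty α] (h : ∀ x y : α, Zig x y) :
    ConnectedSpace α := by
  obtain ⟨x⟩ := ‹Nonempty α›
  rw [connectedSpace_iff_connectedComponent]
  exact ⟨x, Set.eq_univ_of_forall fun y => (h x y).component_eq ▸ mem_connectedComponent⟩

/-- A connected Noetherian sober space is connected by specialisations. -/
theorem zig_of_noetherian {α : Type*} [TopologicalSpace α] [NoetherianSpace α] [QuasiSober α] [ConnectedSpace α]
    (x y : α) : Zig x y := by
  classical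
  have hgen : ∀ W ∈ irreducibleComponents α, ∃ η : α, ∀ w, w ∈ W ↔ η ⤳ w := fun W hW => by
    have hWc := isClosed_of_mem_irreducibleComponents W hW
    refine ⟨(IsIrreducible.genericPoint hW.1), fun w => ?_⟩
    have h := hW.1.isGenericPoint_genericPoint hWc
    exact h.specializes_iff_mem.symm
  let S : Set α := {w | Zig x w}
  have hclosed : ∀ T : Set α, (∀ a b, a ⤳ b → (a ∈ T ↔ b ∈ T)) → IsClosed T := by
    intro T hT
    have hT' : T = ⋃ W ∈ {W ∈ irreducibleComponents α | W ⊆ T}, W := by
      refine subset_antisymm (fun t ht => ?_) (Set.iUnion₂_subset fun W hW => hW.2)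
      obtain ⟨W, hW, htW⟩ : ∃ W ∈ irreducibleComponents α, t ∈ W :=
        ⟨_, irreducibleComponent_mem_irreducibleComponents t, mem_irreducibleComponent⟩
      obtain ⟨η, hη⟩ := hgen W hW
      refine Set.mem_biUnion ⟨hW, fun w hw => ?_⟩ htW
      exact (hT η w ((hη w).1 hw)).1 ((hT η t ((hη t).1 htW)).2 ht)
    rw [hT']
    exact (NoetherianSpace.finite_irreducibleComponents.subset (Set.sep_subset _ _)).isClosed_biUnion
      fun W hW => isClosed_of_mem_irreducibleComponents W hW.1
  have hiff : ∀ a b : α, a ⤳ b → (a ∈ S ↔ b ∈ S) := fun a b h =>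
    ⟨fun ha => .trans _ _ _ ha (.rel _ _ h), fun hb => .trans _ _ _ hb (.symm _ _ (.rel _ _ h))⟩
  have hS : IsClopen S := ⟨hclosed S hiff, isClosed_compl_iff.1 (hclosed Sᶜ fun a b h => not_congr (hiff a b h))⟩
  have := (hS.eq_univ ⟨x, .refl x⟩).symm ▸ Set.mem_univ y
  exact this

variable {k : Type u} [Field k] {Y : Over (Spec (CommRingCat.of k))}

theorem isProper_of_isProjectiveOver (hproj : Neron.IsProjectiveOver k Y) : IsProper Y.hom := by
  obtain ⟨N, i, hi, hiY⟩ := hproj
  haveI := hi
  haveI : IsProper (CohB1.ProjSpaceOver.toBase N (Spec (CommRingCat.of k))) := by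
    haveI := _root_.ProjMor.isProper_toSpec N (ULift.{u} ℤ)
    exact MorphismProperty.pullback_snd _ _ inferInstance
  rw [← hiY]
  infer_instance

/-- Finitely many points of a projective scheme lie in an affine open. -/
theorem exists_affine_of_finite (hproj : Neron.IsProjectiveOver k Y) (S : Set Y.left) (hS : S.Finite) :
    ∃ U : Y.left.Opens, IsAffineOpen U ∧ S ⊆ (U : Set Y.left) := by
  classical
  obtain ⟨N, i, hi, -⟩ := hproj
  haveI := hi
  let g : Y.left ⟶ Proj (CohB1.polyGrading N (ULift.{u} ℤ)) :=
    i ≫ pullback.fst (CohB1.ProjSpace.toSpec N (ULift.{u} ℤ)) (specULiftZIsTerminal.from (Spec (CommRingCat.of k)))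
  haveI : IsAffineHom g := by
    show IsAffineHom (i ≫ pullback.fst (CohB1.ProjSpace.toSpec N (ULift.{u} ℤ))
      (specULiftZIsTerminal.from (Spec (CommRingCat.of k))))
    haveI : IsAffineHom i := inferInstance
    haveI : IsAffineHom (pullback.fst (CohB1.ProjSpace.toSpec N (ULift.{u} ℤ))
      (specULiftZIsTerminal.from (Spec (CommRingCat.of k)))) :=
      MorphismProperty.pullback_fst _ _ (isAffineHom_of_isAffine _)
    infer_instance
  let 𝒜 := CohB1.polyGrading N (ULift.{u} ℤ)
  let P : Finset (Ideal (MvPolynomial (Fin (N + 1)) (ULift.{u} ℤ))) :=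
    hS.toFinset.image fun s => (g s).asHomogeneousIdeal.toIdeal
  obtain ⟨z, m, hm, hz, -, hzP⟩ := GrAvoid.exists_notMem 𝒜 (HomogeneousIdeal.irrelevant 𝒜).toIdeal
    (HomogeneousIdeal.irrelevant 𝒜).isHomogeneous P (fun p hp => by
      obtain ⟨s, -, rfl⟩ := Finset.mem_image.1 hp
      exact ⟨(g s).isPrime, (g s).not_irrelevant_le, (g s).not_irrelevant_le⟩)
  refine ⟨g ⁻¹ᵁ Proj.basicOpen 𝒜 z, (Proj.isAffineOpen_basicOpen 𝒜 z hz hm).preimage g, fun s hs => ?_⟩
  exact hzP _ (Finset.mem_image.2 ⟨s, hS.mem_toFinset.2 hs, rfl⟩)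

/-- A positive-dimensional connected scheme of finite type has no isolated point. -/
theorem eq_empty_of_finite_open [LocallyOfFiniteType Y.hom] [ConnectedSpace Y.left]
    (hY : 0 < topologicalKrullDim Y.left) (U : Set Y.left) (hU : IsOpen U) (hfin : U.Finite) : U = ∅ := by
  by_contra hne
  haveI : JacobsonSpace Y.left := LocallyOfFiniteType.jacobsonSpace Y.hom
  obtain ⟨x, -, hx⟩ := exists_isOpen_singleton_of_isOpen_finite hfin (Set.nonempty_iff_ne_empty.2 hne) hU
  have hxc : IsClosed ({x} : Set Y.left) := isClosed_singleton_of_isLocallyClosed_singleton hx.isLocallyClosed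
  have huniv := IsClopen.eq_univ ⟨hxc, hx⟩ ⟨x, rfl⟩
  haveI : Subsingleton Y.left := ⟨fun a b => by
    have ha : a ∈ ({x} : Set Y.left) := huniv ▸ Set.mem_univ a
    have hb : b ∈ ({x} : Set Y.left) := huniv ▸ Set.mem_univ b
    exact ha.trans hb.symm⟩
  haveI : Subsingleton (IrreducibleCloseds Y.left) := ⟨fun a b => IrreducibleCloseds.ext (by
    obtain ⟨s, hs⟩ := a.2.1
    obtain ⟨t, ht⟩ := b.2.1
    ext w
    exact ⟨fun _ => Subsingleton.elim t w ▸ ht, fun _ => Subsingleton.elim s w ▸ hs⟩)⟩
  exact absurd hY (not_lt.2 Order.krullDim_nonpos_of_subsingleton)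

end Groth.Agent.HilbConn
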