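import Groth.Agent.HilbConn.Spread
import Groth.Agent.HilbConn.Push
import Groth.Agent.HilbConn.Topo
import Groth.Agent.Punct.Main
import Groth.Agent.RankLocus.Main
import Groth.Agent.HilbRep.Main
import Mathlib

/-!
# The Hilbert scheme of points of a connected scheme without isolated points is connected
-/

set_option autoImplicit false
set_option maxSynthPendingDepth 3
set_option linter.style.haveILetI false
set_option linter.unusedSectionVars false
set_option maxHeartbeats 1600000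
universe u

open CategoryTheory CategoryTheory.Limits AlgebraicGeometry IsLocalRing
open scoped TensorProduct

noncomputable section

namespace Groth.Agent.HilbConn

open Groth.Agent.HilbRep Groth.Agent.Punct

variable {k : Type u} [Field k] {Y : Scheme.{u}} {f : Y ⟶ Spec (CommRingCat.of k)} [IsSeparated f] {n m : ℕ}

theorem gA_self (k : Type u) [Field k] : gA k k = 𝟙 _ := by
  rw [gA, Algebra.algebraMap_self]
  exact Spec.map_id _

theorem finite_range_q {K : Type u} [Field K] (z : Fam f m (Spec (CommRingCat.of K))) : (Set.range z.q).Finite := by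
  have h : (Set.univ : Set z.sch).Finite := by
    refine (z.p.finite_preimage_singleton (closedPoint K)).subset fun w _ => ?_
    exact Subsingleton.elim _ _
  rw [← Set.image_univ]
  exact h.image _

/-- Over a local ring it is enough to control the closed fibre. -/
theorem mem_of_closed_fibre {B : Type u} [CommRing B] [IsLocalRing B] (z : Fam f m (Spec (CommRingCat.of B)))
    (D : Y.Opens) (h : ∀ w, z.p w = closedPoint B → z.q w ∈ D) (w : z.sch) : z.q w ∈ D := by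
  have hc : IsClosed (z.p '' closure {w}) := z.p.isClosedMap _ isClosed_closure
  obtain ⟨w', hw', hpw'⟩ := (IsLocalRing.specializes_closedPoint (z.p w)).mem_closed hc
    ⟨w, subset_closure rfl, rfl⟩
  exact (((specializes_iff_mem_closure).2 hw').map z.q.continuous).mem_open D.isOpen (h w' hpw')

theorem ptY_mem (c : Chart f) {B : Type u} [CommRing B] [Algebra k B] (y : c.A →ₐ[k] B)
    (x : Spec (CommRingCat.of B)) : ptY c y x ∈ c.D := by
  show ptY c y x ∈ (c.D : Set Y)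
  rw [← c.range_ι, ptY, Scheme.Hom.comp_apply]
  exact ⟨_, rfl⟩

theorem range_of_famY_eq (c : Chart f) {B : Type u} [CommRing B] [Algebra k B] {J : Ideal (B ⊗[k] c.A)}
    (h : HasBasis n J) {z : Fam f n (Spec (CommRingCat.of B))} (e : famY c h = z) :
    z.g = gA k B ∧ ∀ w, z.q w ∈ c.D := by
  subst e
  exact ⟨rfl, range_push c _⟩

/-- Finitely many points lie in a chart. -/
theorem exists_chart_mem (hfin : ∀ S : Set Y, S.Finite → ∃ U : Y.Opens, IsAffineOpen U ∧ S ⊆ U) {S : Set Y}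
    (hS : S.Finite) : ∃ c : Chart f, ∀ x ∈ S, x ∈ c.D := by
  obtain ⟨U, hU, hSU⟩ := hfin S hS
  exact ⟨⟨U, hU⟩, hSU⟩

theorem Chart.eq_empty (c : Chart f) (hno : ∀ U : Set Y, IsOpen U → U.Finite → U = ∅)
    (U : Set (PrimeSpectrum c.A)) (hU : IsOpen U) (hf : U.Finite) : U = ∅ :=
  Set.image_eq_empty.1 (hno (c.ι '' U) (c.ι.isOpenEmbedding.isOpenMap U hU) (hf.image _))

/-- `z` extends `z'` by the point `yp`. -/
def IsExtFam {B : Type u} [CommRing B] [Algebra k B] (z' : Fam f n (Spec (CommRingCat.of B)))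
    (yp : Spec (CommRingCat.of B) ⟶ Y) (z : Fam f (n + 1) (Spec (CommRingCat.of B))) : Prop :=
  ∃ (c : Chart f) (J' J : Ideal (B ⊗[k] c.A)) (y : c.A →ₐ[k] B) (h : IsExtn n J' J y),
    famY c h.1 = z' ∧ famY c h.2.1 = z ∧ ptY c y = yp

theorem IsExtFam.g_eq {B : Type u} [CommRing B] [Algebra k B] {z' : Fam f n (Spec (CommRingCat.of B))}
    {yp : Spec (CommRingCat.of B) ⟶ Y} {z : Fam f (n + 1) (Spec (CommRingCat.of B))} (h : IsExtFam z' yp z) :
    z'.g = gA k B ∧ z.g = gA k B := by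
  obtain ⟨c, J', J, y, h, rfl, rfl, -⟩ := h
  exact ⟨rfl, rfl⟩

theorem IsExtFam.restr {B C : Type u} [CommRing B] [Algebra k B] [CommRing C] [Algebra k C] (φ : B →ₐ[k] C)
    {z' : Fam f n (Spec (CommRingCat.of B))} {yp : Spec (CommRingCat.of B) ⟶ Y}
    {z : Fam f (n + 1) (Spec (CommRingCat.of B))} (h : IsExtFam z' yp z) :
    IsExtFam (z'.restr (Spec.map (CommRingCat.ofHom φ.toRingHom))) (Spec.map (CommRingCat.ofHom φ.toRingHom) ≫ yp)
      (z.restr (Spec.map (CommRingCat.ofHom φ.toRingHom))) := by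
  obtain ⟨c, J', J, y, h, rfl, rfl, rfl⟩ := h
  exact ⟨c, _, _, φ.comp y, h.map φ, (famY_restr c φ h.1).symm, (famY_restr c φ h.2.1).symm, ptY_restr c φ y⟩

section Geom

variable [LocallyOfFiniteType f] (hfin : ∀ S : Set Y, S.Finite → ∃ U : Y.Opens, IsAffineOpen U ∧ S ⊆ U)
  (hno : ∀ U : Set Y, IsOpen U → U.Finite → U = ∅)
include hfin hno

theorem exists_extFam {K : Type u} [Field K] [Algebra k K] (z' : Fam f n (Spec (CommRingCat.of K)))
    (hg : z'.g = gA k K) (yp : Spec (CommRingCat.of K) ⟶ Y) (hyp : yp ≫ f = gA k K) :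
    ∃ z, IsExtFam z' yp z := by
  obtain ⟨c, hc⟩ := exists_chart_mem (f := f) hfin ((finite_range_q z').union (Set.finite_range yp))
  obtain ⟨J', hJ', e'⟩ := exists_famY c z' hg fun w => hc _ (Or.inl ⟨w, rfl⟩)
  obtain ⟨y, ey⟩ := exists_ptY c yp hyp fun x => hc _ (Or.inr ⟨x, rfl⟩)
  obtain ⟨J, hJ⟩ := exists_extn hJ' y (smul_lt_of_no_finite_open (c.eq_empty hno) hJ' y)
  exact ⟨_, c, J', J, y, hJ, e', rfl, ey⟩

end Geom

section Classify

variable {H : Over (Spec (CommRingCat.of k))} {Z : HilbD.Obj f m H} (hH : HilbD.IsUniversal f m H Z)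

/-- The classifying morphism. -/
def cls {T : Scheme.{u}} (z : Fam f m T) : T ⟶ H.left := (existsUnique_classify f m H Z hH z).exists.choose

theorem cls_spec {T : Scheme.{u}} (z : Fam f m T) : (⟨H.hom, Z⟩ : Fam f m H.left).restr (cls hH z) = z :=
  (existsUnique_classify f m H Z hH z).exists.choose_spec

theorem cls_eq {T : Scheme.{u}} {z : Fam f m T} {h : T ⟶ H.left}
    (e : (⟨H.hom, Z⟩ : Fam f m H.left).restr h = z) : cls hH z = h :=
  (existsUnique_classify f m H Z hH z).unique (cls_spec hH z) e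

theorem cls_restr {T T' : Scheme.{u}} (z : Fam f m T) (h : T' ⟶ T) : cls hH (z.restr h) = h ≫ cls hH z :=
  cls_eq hH (by rw [← Fam.restr_restr, cls_spec])

/-- The point of a family over a field. -/
def pt {K : Type u} [Field K] (z : Fam f m (Spec (CommRingCat.of K))) : H.left := cls hH z (closedPoint K)

theorem pt_restr {T : Scheme.{u}} (z : Fam f m T) {K : Type u} [Field K] (g : Spec (CommRingCat.of K) ⟶ T) :
    pt hH (z.restr g) = cls hH z (g (closedPoint K)) := by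
  rw [pt, cls_restr]
  rfl

theorem pt_restr_field {K L : Type u} [Field K] [Field L] (z : Fam f m (Spec (CommRingCat.of K)))
    (g : Spec (CommRingCat.of L) ⟶ Spec (CommRingCat.of K)) : pt hH (z.restr g) = pt hH z := by
  rw [pt_restr, pt]
  exact congrArg _ (Subsingleton.elim _ _)

theorem pt_universal {K : Type u} [Field K] (h : Spec (CommRingCat.of K) ⟶ H.left) :
    pt hH ((⟨H.hom, Z⟩ : Fam f m H.left).restr h) = h (closedPoint K) := by
  rw [pt, cls_eq hH rfl]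

/-- Every point is linked to a `k`-point. -/
theorem exists_kpt [IsAlgClosed k] [LocallyOfFiniteType f]
    (hfin : ∀ S : Set Y, S.Finite → ∃ U : Y.Opens, IsAffineOpen U ∧ S ⊆ U) (x : H.left) :
    ∃ z : Fam f m (Spec (CommRingCat.of k)), z.g = gA k k ∧ Zig x (pt hH z) := by
  classical
  let K := H.left.residueField x
  let ι : Spec (CommRingCat.of K) ⟶ H.left := H.left.fromSpecResidueField x
  letI : Algebra k K := (Spec.preimage (ι ≫ H.hom)).hom.toAlgebra
  have hg : ι ≫ H.hom = gA k K := (Spec.map_preimage (ι ≫ H.hom)).symm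
  let zx : Fam f m (Spec (CommRingCat.of K)) := (⟨H.hom, Z⟩ : Fam f m H.left).restr ι
  have hx : pt hH zx = x := (pt_universal hH ι).trans (Scheme.fromSpecResidueField_apply x _)
  obtain ⟨c, hc⟩ := exists_chart_mem (f := f) hfin (finite_range_q zx)
  obtain ⟨J, hJ, e⟩ := exists_famY c zx hg fun w => hc _ ⟨w, rfl⟩
  obtain ⟨B, JB, hBft, hJB, rfl⟩ := exists_spread hJ
  haveI := hBft
  obtain ⟨M, hM⟩ := Ideal.exists_maximal ↥B
  haveI := hM
  obtain ⟨χ, -⟩ := RankLocus.exists_eval (k := k) M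
  let F := famY c hJB
  refine ⟨F.restr (Spec.map (CommRingCat.ofHom χ.toRingHom)), ?_, ?_⟩
  · rw [Fam.restr_g, famY_g, gA, gA, ← Spec.map_comp]
    congr 1
    ext r
    exact χ.commutes r
  · have e2 : F.restr (Spec.map (CommRingCat.ofHom B.val.toRingHom)) = zx := (famY_restr c B.val hJB).trans e
    refine .rel _ _ ?_
    suffices h : pt hH zx ⤳ pt hH (F.restr (Spec.map (CommRingCat.ofHom χ.toRingHom))) by rwa [hx] at h
    rw [← e2, pt_restr, pt_restr]
    refine Specializes.map ?_ (cls hH F).continuous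
    refine (PrimeSpectrum.le_iff_specializes _ _).1 ?_
    intro b hb
    have hb0 : b = 0 := by
      have h0 : B.val b ∈ IsLocalRing.maximalIdeal K := hb
      rw [IsLocalRing.maximalIdeal_eq_bot, Ideal.mem_bot] at h0
      exact Subtype.ext h0
    rw [hb0]
    exact Submodule.zero_mem _

end Classify

section Unique

variable [LocallyOfFiniteType f] (hno : ∀ U : Set Y, IsOpen U → U.Finite → U = ∅)
  {H : Over (Spec (CommRingCat.of k))} {Z : HilbD.Obj f (n + 1) H} (hH : HilbD.IsUniversal f (n + 1) H Z)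
  {K : Type u} [Field K] [Algebra k K]

theorem zig_same (c : Chart f) {J' J₁ J₂ : Ideal (K ⊗[k] c.A)} {y : c.A →ₐ[k] K} (h₁ : IsExtn n J' J₁ y)
    (h₂ : IsExtn n J' J₂ y) : Zig (pt hH (famY c h₁.2.1)) (pt hH (famY c h₂.2.1)) := by
  rcases eq_or_ne J₁ J₂ with rfl | hne
  · exact .refl _
  obtain ⟨P⟩ := exists_pencil h₁ h₂ hne
  obtain ⟨JX, hJX, hev⟩ := exists_pencil_family P h₁.2.1
  let F := famY c hJX
  have e₁ : famY c h₁.2.1 = F.restr (Spec.map (CommRingCat.ofHom (evalAt k (0 : K)).toRingHom)) := by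
    rw [restr_push]
    exact congrArg (push c) (fam_specialize (evalAt k (0 : K)) hJX h₁.2.1 fun x hx => (hev x hx).1)
  have e₂ : famY c h₂.2.1 = F.restr (Spec.map (CommRingCat.ofHom (evalAt k (1 : K)).toRingHom)) := by
    rw [restr_push]
    exact congrArg (push c) (fam_specialize (evalAt k (1 : K)) hJX h₂.2.1 fun x hx => (hev x hx).2)
  rw [e₁, e₂, pt_restr, pt_restr]
  let η : Spec (CommRingCat.of (Polynomial K)) := (⟨⊥, Ideal.isPrime_bot⟩ : PrimeSpectrum (Polynomial K))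
  have hη : ∀ q, cls hH F η ⤳ cls hH F q := fun q =>
    ((PrimeSpectrum.le_iff_specializes (⟨⊥, Ideal.isPrime_bot⟩ : PrimeSpectrum (Polynomial K)) q).1 bot_le).map
      (cls hH F).continuous
  exact .trans _ (cls hH F η) _ (.symm _ _ (.rel _ _ (hη _))) (.rel _ _ (hη _))

theorem zig_down (c c₃ : Chart f) (hle : c₃.D ≤ c.D) {J' J : Ideal (K ⊗[k] c.A)} {y : c.A →ₐ[k] K}
    {J₃' J₃ : Ideal (K ⊗[k] c₃.A)} {y₃ : c₃.A →ₐ[k] K} (h : IsExtn n J' J y) (h₃ : IsExtn n J₃' J₃ y₃)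
    (e' : famY c h.1 = famY c₃ h₃.1) (ey : ptY c y = ptY c₃ y₃) :
    Zig (pt hH (famY c h.2.1)) (pt hH (famY c₃ h₃.2.1)) := by
  obtain ⟨I, hI, eI⟩ := exists_famY c (famY c₃ h₃.2.1) rfl fun w => hle (range_push c₃ _ w)
  have hI' := comap_eq_of_famY_eq c c₃ hle hI h₃.2.1 eI
  have hJ' := comap_eq_of_famY_eq c c₃ hle h.1 h₃.1 e'
  have hy : y = y₃.comp (resAlg c c₃ hle) := eq_of_ptY_eq c (ey.trans (ptY_res c c₃ hle y₃))
  have hext : IsExtn n J' I y := by
    refine ⟨h.1, hI, ?_, ?_⟩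
    · rw [← hI', ← hJ']
      exact Ideal.comap_mono h₃.2.2.1
    · rw [← hI', ← hJ', hy, ← comap_ker_ev]
      exact (Ideal.le_comap_mul _).trans (Ideal.comap_mono h₃.2.2.2)
  rw [← eI]
  exact zig_same hH c h hext

include hno in
theorem zig_unique {z' : Fam f n (Spec (CommRingCat.of K))} {yp : Spec (CommRingCat.of K) ⟶ Y}
    {z₁ z₂ : Fam f (n + 1) (Spec (CommRingCat.of K))} (h₁ : IsExtFam z' yp z₁) (h₂ : IsExtFam z' yp z₂) :
    Zig (pt hH z₁) (pt hH z₂) := by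
  obtain ⟨c₁, J₁', J₁, y₁, h₁, e₁', rfl, ey₁⟩ := h₁
  obtain ⟨c₂, J₂', J₂, y₂, h₂, e₂', rfl, ey₂⟩ := h₂
  haveI : IsAffineHom (pullback.diagonal (terminal.from Y)) := by
    haveI : IsSeparated (terminal.from Y) := by
      rw [← terminal.comp_from f]
      infer_instance
    infer_instance
  obtain ⟨c₃, hc₃⟩ : ∃ c₃ : Chart f, c₃.D = c₁.D ⊓ c₂.D := ⟨⟨_, c₁.hD.inf c₂.hD⟩, rfl⟩
  obtain ⟨hg, hr₁⟩ := range_of_famY_eq c₁ h₁.1 e₁'
  obtain ⟨-, hr₂⟩ := range_of_famY_eq c₂ h₂.1 e₂'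
  obtain ⟨J₃', hJ₃', e₃'⟩ := exists_famY c₃ z' hg fun w => hc₃ ▸ ⟨hr₁ w, hr₂ w⟩
  obtain ⟨y₃, ey₃⟩ := exists_ptY c₃ yp (ey₁ ▸ ptY_f c₁ y₁)
    fun x => hc₃ ▸ ⟨ey₁ ▸ ptY_mem c₁ y₁ x, ey₂ ▸ ptY_mem c₂ y₂ x⟩
  obtain ⟨J₃, h₃⟩ := exists_extn hJ₃' y₃ (smul_lt_of_no_finite_open (c₃.eq_empty hno) hJ₃' y₃)
  refine .trans _ (pt hH (famY c₃ h₃.2.1)) _ ?_ (.symm _ _ ?_)
  · exact zig_down hH c₁ c₃ (hc₃ ▸ inf_le_left) h₁ h₃ (e₁'.trans e₃'.symm) (ey₁.trans ey₃.symm)
  · exact zig_down hH c₂ c₃ (hc₃ ▸ inf_le_right) h₂ h₃ (e₂'.trans e₃'.symm) (ey₂.trans ey₃.symm)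

end Unique

section OverBase

variable [LocallyOfFiniteType f] (hfin : ∀ S : Set Y, S.Finite → ∃ U : Y.Opens, IsAffineOpen U ∧ S ⊆ U)
  (hno : ∀ U : Set Y, IsOpen U → U.Finite → U = ∅)
  {H : Over (Spec (CommRingCat.of k))} {Z : HilbD.Obj f (n + 1) H} (hH : HilbD.IsUniversal f (n + 1) H Z)
  {X₀ : Scheme.{u}} (zu : Fam f n X₀) (yu : X₀ ⟶ Y)

/-- The point of `H` lies over `x₀`. -/
def Lies (x₀ : X₀) (h : H.left) : Prop :=
  ∃ (K : Type u) (_ : Field K) (_ : Algebra k K) (a : Spec (CommRingCat.of K) ⟶ X₀)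
    (z : Fam f (n + 1) (Spec (CommRingCat.of K))),
    a (closedPoint K) = x₀ ∧ IsExtFam (zu.restr a) (a ≫ yu) z ∧ pt hH z = h

include hfin hno in
theorem exists_lies (hyu : yu ≫ f = zu.g) (x₀ : X₀) : ∃ h, Lies hH zu yu x₀ h := by
  let K := X₀.residueField x₀
  let a : Spec (CommRingCat.of K) ⟶ X₀ := X₀.fromSpecResidueField x₀
  letI : Algebra k K := (Spec.preimage (a ≫ zu.g)).hom.toAlgebra
  have hg : a ≫ zu.g = gA k K := (Spec.map_preimage (a ≫ zu.g)).symm
  obtain ⟨z, hz⟩ := exists_extFam hfin hno (zu.restr a) hg (a ≫ yu) (by rw [Category.assoc, hyu, hg])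
  exact ⟨_, K, inferInstance, inferInstance, a, z, Scheme.fromSpecResidueField_apply x₀ _, hz, rfl⟩

include hno in
theorem zig_lies {x₀ : X₀} {h₁ h₂ : H.left} (l₁ : Lies hH zu yu x₀ h₁) (l₂ : Lies hH zu yu x₀ h₂) :
    Zig h₁ h₂ := by
  obtain ⟨K₁, i₁, j₁, a₁, z₁, hx₁, hz₁, rfl⟩ := l₁
  obtain ⟨K₂, i₂, j₂, a₂, z₂, hx₂, hz₂, rfl⟩ := l₂
  obtain ⟨⟨x, ψ₁⟩, rfl⟩ := (Scheme.SpecToEquivOfField K₁ X₀).symm.surjective a₁
  obtain ⟨⟨x', ψ₂⟩, rfl⟩ := (Scheme.SpecToEquivOfField K₂ X₀).symm.surjective a₂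
  have h1 : x = x₀ := (Scheme.fromSpecResidueField_apply x _).symm.trans hx₁
  have h2 : x' = x₀ := (Scheme.fromSpecResidueField_apply x' _).symm.trans hx₂
  obtain rfl := h1.symm
  obtain rfl := h2.symm
  letI : Algebra (X₀.residueField x₀) K₁ := ψ₁.hom.toAlgebra
  letI : Algebra (X₀.residueField x₀) K₂ := ψ₂.hom.toAlgebra
  obtain ⟨M, hM⟩ := Ideal.exists_maximal (K₁ ⊗[X₀.residueField x₀] K₂)
  haveI := hM
  let L := (K₁ ⊗[X₀.residueField x₀] K₂) ⧸ M
  letI : Field L := Ideal.Quotient.field M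
  let ι₁ : K₁ →+* L := (Ideal.Quotient.mk M).comp Algebra.TensorProduct.includeLeftRingHom
  let ι₂ : K₂ →+* L := (Ideal.Quotient.mk M).comp
    (Algebra.TensorProduct.includeRight : K₂ →ₐ[X₀.residueField x₀] _).toRingHom
  have hι : ι₁.comp ψ₁.hom = ι₂.comp ψ₂.hom := RingHom.ext fun r => by
    show Ideal.Quotient.mk M (algebraMap (X₀.residueField x₀) K₁ r ⊗ₜ 1) =
      Ideal.Quotient.mk M (1 ⊗ₜ algebraMap (X₀.residueField x₀) K₂ r)
    rw [Algebra.algebraMap_eq_smul_one, Algebra.algebraMap_eq_smul_one, TensorProduct.smul_tmul]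
  let a₁ := (Scheme.SpecToEquivOfField K₁ X₀).symm ⟨x₀, ψ₁⟩
  let a₂ := (Scheme.SpecToEquivOfField K₂ X₀).symm ⟨x₀, ψ₂⟩
  have ha : Spec.map (CommRingCat.ofHom ι₁) ≫ a₁ = Spec.map (CommRingCat.ofHom ι₂) ≫ a₂ := by
    show _ ≫ Spec.map ψ₁ ≫ _ = _ ≫ Spec.map ψ₂ ≫ _
    rw [← Spec.map_comp_assoc, ← Spec.map_comp_assoc]
    exact congrArg (fun φ => Spec.map φ ≫ _) (CommRingCat.hom_ext hι)
  letI : Algebra k L := (ι₁.comp (algebraMap k K₁)).toAlgebra
  have hg₁ : a₁ ≫ zu.g = gA k K₁ := hz₁.g_eq.1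
  have hg₂ : a₂ ≫ zu.g = gA k K₂ := hz₂.g_eq.1
  have hk : ι₂.comp (algebraMap k K₂) = ι₁.comp (algebraMap k K₁) := by
    have e := congrArg (· ≫ zu.g) ha
    simp only [Category.assoc, hg₁, hg₂, gA, ← Spec.map_comp] at e
    exact (congrArg CommRingCat.Hom.hom (Spec.map_injective e)).symm
  let φ₁ : K₁ →ₐ[k] L := { ι₁ with commutes' := fun _ => rfl }
  let φ₂ : K₂ →ₐ[k] L := { ι₂ with commutes' := fun r => RingHom.congr_fun hk r }
  have e₁ := hz₁.restr φ₁
  have e₂ := hz₂.restr φ₂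
  have ha' : Spec.map (CommRingCat.ofHom φ₁.toRingHom) ≫ a₁ = Spec.map (CommRingCat.ofHom φ₂.toRingHom) ≫ a₂ := ha
  rw [Fam.restr_restr, ← Category.assoc] at e₁ e₂
  rw [← ha'] at e₂
  have := zig_unique hno hH e₁ e₂
  rwa [pt_restr_field, pt_restr_field] at this

include hfin hno in
theorem exists_zig_of_specializes (hyu : yu ≫ f = zu.g) {x₀ x₁ : X₀} (hx : x₀ ⤳ x₁) :
    ∃ h₀ h₁, Lies hH zu yu x₀ h₀ ∧ Lies hH zu yu x₁ h₁ ∧ Zig h₀ h₁ := by
  let ρ : X₀.presheaf.stalk x₁ ⟶ X₀.residueField x₀ := X₀.presheaf.stalkSpecializes hx ≫ X₀.residue x₀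
  obtain ⟨A, hA, hloc⟩ := IsLocalRing.exists_factor_valuationRing ρ.hom
  let sA : X₀.presheaf.stalk x₁ ⟶ CommRingCat.of A := CommRingCat.ofHom (ρ.hom.codRestrict _ hA)
  let a : Spec (CommRingCat.of A) ⟶ X₀ := Spec.map sA ≫ X₀.fromSpecStalk x₁
  have hclosed : a (closedPoint A) = x₁ := by
    have h1 : Spec.map sA (closedPoint A) = closedPoint (X₀.presheaf.stalk x₁) :=
      comap_closedPoint (S := A) (ρ.hom.codRestrict A.toSubring hA)
    show X₀.fromSpecStalk x₁ (Spec.map sA (closedPoint A)) = x₁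
    rw [h1]
    exact Scheme.fromSpecStalk_closedPoint
  have hgen : Spec.map (CommRingCat.ofHom (algebraMap A (X₀.residueField x₀))) ≫ a =
      X₀.fromSpecResidueField x₀ := by
    rw [Scheme.fromSpecResidueField, ← Scheme.SpecMap_stalkSpecializes_fromSpecStalk hx]
    simp only [a, ← Spec.map_comp_assoc]
    rfl
  let K := X₀.residueField x₀
  letI algA : Algebra k A := (Spec.preimage (a ≫ zu.g)).hom.toAlgebra
  letI algK : Algebra k K := ((algebraMap A K).comp (algebraMap k A)).toAlgebra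
  haveI : IsScalarTower k A K := IsScalarTower.of_algebraMap_eq' rfl
  have hg : a ≫ zu.g = gA k A := (Spec.map_preimage (a ≫ zu.g)).symm
  let z' := zu.restr a
  let yp := a ≫ yu
  have hS : (z'.q '' (z'.p ⁻¹' {closedPoint A}) ∪ {yp (closedPoint A)}).Finite :=
    ((z'.p.finite_preimage_singleton _).image _).union (Set.finite_singleton _)
  obtain ⟨c, hc⟩ := exists_chart_mem (f := f) hfin hS
  obtain ⟨J', hJ', e'⟩ := exists_famY c z' hg
    (mem_of_closed_fibre z' c.D fun w hw => hc _ (Or.inl ⟨w, hw, rfl⟩))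
  obtain ⟨y, ey⟩ := exists_ptY c yp (by rw [Category.assoc, hyu, hg])
    fun x => ((IsLocalRing.specializes_closedPoint x).map yp.continuous).mem_open c.D.isOpen (hc _ (Or.inr rfl))
  let φK : A →ₐ[k] K := IsScalarTower.toAlgHom k A K
  obtain ⟨JK, hJK⟩ := exists_extn (hasBasis_map φK hJ') (φK.comp y)
    (smul_lt_of_no_finite_open (c.eq_empty hno) (hasBasis_map φK hJ') (φK.comp y))
  obtain ⟨J, hJ, -⟩ := exists_extn_limit hJ' y hJK
  have hext : IsExtFam z' yp (famY c hJ.2.1) := ⟨c, J', J, y, hJ, e', rfl, ey⟩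
  let φ₁ : A →ₐ[k] ResidueField A := IsScalarTower.toAlgHom k A (ResidueField A)
  let F := famY c hJ.2.1
  have e0 := hext.restr φK
  have e1 := hext.restr φ₁
  rw [Fam.restr_restr, ← Category.assoc] at e0 e1
  refine ⟨_, _, ⟨K, inferInstance, algK, _, _, ?_, e0, rfl⟩, ⟨ResidueField A, inferInstance, inferInstance, _, _, ?_, e1, rfl⟩, ?_⟩
  · exact (congrArg (fun g : Spec (CommRingCat.of K) ⟶ X₀ => g (closedPoint K)) hgen).trans
      (Scheme.fromSpecResidueField_apply x₀ _)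
  · refine (congrArg (fun q : Spec (CommRingCat.of A) => a q) ?_).trans hclosed
    exact comap_closedPoint (residue A)
  · rw [pt_restr, pt_restr]
    refine .rel _ _ (Specializes.map ?_ (cls hH F).continuous)
    rw [show Spec.map (CommRingCat.ofHom φ₁.toRingHom) (closedPoint (ResidueField A)) = closedPoint A from
      comap_closedPoint (residue A)]
    exact IsLocalRing.specializes_closedPoint _

include hfin hno in
theorem zig_of_zig (hyu : yu ≫ f = zu.g) {x₀ x₁ : X₀} (hx : Zig x₀ x₁) {h₀ h₁ : H.left}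
    (l₀ : Lies hH zu yu x₀ h₀) (l₁ : Lies hH zu yu x₁ h₁) : Zig h₀ h₁ := by
  induction hx generalizing h₀ h₁ with
  | rel a b hab =>
    obtain ⟨g₀, g₁, m₀, m₁, hg⟩ := exists_zig_of_specializes hfin hno hH zu yu hyu hab
    exact .trans _ _ _ (zig_lies hno hH zu yu l₀ m₀) (.trans _ _ _ hg (zig_lies hno hH zu yu m₁ l₁))
  | refl a => exact zig_lies hno hH zu yu l₀ l₁
  | symm a b _ ih => exact .symm _ _ (ih l₁ l₀)
  | trans a b c _ _ ih ih' =>
    obtain ⟨g, hg⟩ := exists_lies hfin hno hH zu yu hyu b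
    exact .trans _ _ _ (ih l₀ hg) (ih' hg l₁)

end OverBase

section Induction

variable [IsAlgClosed k] [LocallyOfFiniteType f]
  (hfin : ∀ S : Set Y, S.Finite → ∃ U : Y.Opens, IsAffineOpen U ∧ S ⊆ U)
  (hno : ∀ U : Set Y, IsOpen U → U.Finite → U = ∅)
include hfin hno

theorem exists_kY [Nonempty Y] : ∃ y₀ : Spec (CommRingCat.of k) ⟶ Y, y₀ ≫ f = gA k k := by
  obtain ⟨x⟩ := ‹Nonempty Y›
  obtain ⟨c, hc⟩ := exists_chart_mem (f := f) hfin (Set.finite_singleton x)
  have hx : x ∈ Set.range c.ι := by rw [c.range_ι]; exact hc x rfl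
  obtain ⟨p, -⟩ := hx
  haveI : Nontrivial c.A := PrimeSpectrum.nontrivial (show PrimeSpectrum c.A from p)
  obtain ⟨M, hM⟩ := Ideal.exists_maximal c.A
  haveI := hM
  obtain ⟨χ, -⟩ := RankLocus.exists_eval (k := k) M
  exact ⟨ptY c χ, ptY_f c χ⟩

theorem main [Nonempty Y] (hYzig : ∀ x y : Y, Zig x y) (n : ℕ) :
    ∀ (H : Over (Spec (CommRingCat.of k))) (Z : HilbD.Obj f n H), HilbD.IsUniversal f n H Z →
      Nonempty H.left ∧ ∀ x y : H.left, Zig x y := by
  induction n with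
  | zero =>
    intro H Z hH
    have hzero : ∀ {B : Type u} [CommRing B] [Algebra k B] (c : Chart f) {J : Ideal (B ⊗[k] c.A)},
        HasBasis 0 J → J = ⊤ := by
      intro B _ _ c J hJ
      obtain ⟨v, hv⟩ := hJ
      rw [Ideal.eq_top_iff_one, ← Ideal.Quotient.eq_zero_iff_mem]
      obtain ⟨d, hd⟩ := hv.2 (Ideal.Quotient.mk J 1)
      rw [← hd]
      simp
    have hone : ∀ z z' : Fam f 0 (Spec (CommRingCat.of k)), z.g = gA k k → z'.g = gA k k → z = z' := by
      intro z z' hg hg'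
      obtain ⟨c, hc⟩ := exists_chart_mem (f := f) hfin ((finite_range_q z).union (finite_range_q z'))
      obtain ⟨J, hJ, e⟩ := exists_famY c z hg fun w => hc _ (Or.inl ⟨w, rfl⟩)
      obtain ⟨J', hJ', e'⟩ := exists_famY c z' hg' fun w => hc _ (Or.inr ⟨w, rfl⟩)
      obtain rfl := hzero c hJ
      obtain rfl := hzero c hJ'
      exact e.symm.trans e'
    obtain ⟨x⟩ := ‹Nonempty Y›
    obtain ⟨c, -⟩ := exists_chart_mem (f := f) hfin (Set.finite_singleton x)
    have htop : HasBasis 0 (⊤ : Ideal (k ⊗[k] c.A)) := by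
      haveI : Subsingleton ((k ⊗[k] c.A) ⧸ (⊤ : Ideal (k ⊗[k] c.A))) := Ideal.Quotient.subsingleton_iff.2 rfl
      exact ⟨Fin.elim0, fun a b _ => Subsingleton.elim a b, fun q => ⟨Fin.elim0, Subsingleton.elim _ _⟩⟩
    refine ⟨⟨pt hH (famY c htop)⟩, fun a b => ?_⟩
    obtain ⟨z, hz, hza⟩ := exists_kpt hH hfin a
    obtain ⟨z', hz', hzb⟩ := exists_kpt hH hfin b
    obtain rfl := hone z z' hz hz'
    exact .trans _ _ _ hza (.symm _ _ hzb)
  | succ n ih =>
    intro H Z hH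
    obtain ⟨H', Z', hH'⟩ := HilbRep.representable f n fun s x _ => by
      obtain ⟨U, hU, hxU⟩ := hfin _ (Set.finite_range x)
      exact ⟨U, hU, fun i => hxU ⟨i, rfl⟩⟩
    obtain ⟨⟨x'⟩, hzig'⟩ := ih H' Z' hH'
    let zH : Fam f n H'.left := ⟨H'.hom, Z'⟩
    obtain ⟨y₀, hy₀⟩ := exists_kY hfin hno (f := f)
    refine ⟨?_, ?_⟩
    · have hyu : (H'.hom ≫ y₀) ≫ f = zH.g := by
        rw [Category.assoc, hy₀, gA_self, Category.comp_id]
      obtain ⟨h, -⟩ := exists_lies hfin hno hH zH (H'.hom ≫ y₀) hyu x'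
      exact ⟨h⟩
    -- every point is linked to an extension of a `k`-family
    have hk : ∀ x : H.left, ∃ (z' : Fam f n (Spec (CommRingCat.of k))) (yp : Spec (CommRingCat.of k) ⟶ Y)
        (z : Fam f (n + 1) (Spec (CommRingCat.of k))),
        z'.g = gA k k ∧ yp ≫ f = gA k k ∧ IsExtFam z' yp z ∧ Zig x (pt hH z) := by
      intro x
      obtain ⟨z, hz, hxz⟩ := exists_kpt hH hfin x
      obtain ⟨c, hc⟩ := exists_chart_mem (f := f) hfin (finite_range_q z)
      obtain ⟨J, hJ, e⟩ := exists_famY c z hz fun w => hc _ ⟨w, rfl⟩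
      obtain ⟨J', y, h⟩ := exists_sub hJ
      exact ⟨famY c h.1, ptY c y, z, rfl, ptY_f c y, ⟨c, J', J, y, h, rfl, e, rfl⟩, hxz⟩
    intro x₁ x₂
    obtain ⟨z₁', y₁, z₁, hg₁, hy₁, he₁, hx₁⟩ := hk x₁
    obtain ⟨z₂', y₂, z₂, hg₂, hy₂, he₂, hx₂⟩ := hk x₂
    obtain ⟨z₁₂, he₁₂⟩ := exists_extFam hfin hno z₁' hg₁ y₂ hy₂
    -- move the point
    have step₁ : Zig (pt hH z₁) (pt hH z₁₂) := by
      let zu : Fam f n Y := z₁'.restr f
      have hyu : 𝟙 Y ≫ f = zu.g := by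
        rw [Category.id_comp, Fam.restr_g, hg₁, gA_self]
        exact (Category.comp_id _).symm
      have hr : ∀ y : Spec (CommRingCat.of k) ⟶ Y, y ≫ f = gA k k → zu.restr y = z₁' ∧ y ≫ 𝟙 Y = y := fun y hy =>
        ⟨by rw [Fam.restr_restr, hy, gA_self, Fam.restr_id], Category.comp_id y⟩
      refine zig_of_zig hfin hno hH zu (𝟙 Y) hyu (hYzig (y₁ (closedPoint k)) (y₂ (closedPoint k)))
        ⟨k, inferInstance, inferInstance, y₁, z₁, rfl, ?_, rfl⟩ ⟨k, inferInstance, inferInstance, y₂, z₁₂, rfl, ?_, rfl⟩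
      · rw [(hr y₁ hy₁).1, (hr y₁ hy₁).2]; exact he₁
      · rw [(hr y₂ hy₂).1, (hr y₂ hy₂).2]; exact he₁₂
    -- move the subfamily
    have step₂ : Zig (pt hH z₁₂) (pt hH z₂) := by
      have hyu : (H'.hom ≫ y₂) ≫ f = zH.g := by
        rw [Category.assoc, hy₂, gA_self, Category.comp_id]
      have hr : ∀ z : Fam f n (Spec (CommRingCat.of k)), z.g = gA k k →
          zH.restr (cls hH' z) = z ∧ cls hH' z ≫ H'.hom ≫ y₂ = y₂ := by
        intro z hz
        refine ⟨cls_spec hH' z, ?_⟩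
        have e : cls hH' z ≫ H'.hom = gA k k := (congrArg Fam.g (cls_spec hH' z)).trans hz
        rw [← Category.assoc, e, gA_self, Category.id_comp]
      refine zig_of_zig hfin hno hH zH (H'.hom ≫ y₂) hyu (hzig' (pt hH' z₁') (pt hH' z₂'))
        ⟨k, inferInstance, inferInstance, cls hH' z₁', z₁₂, rfl, ?_, rfl⟩
        ⟨k, inferInstance, inferInstance, cls hH' z₂', z₂, rfl, ?_, rfl⟩
      · rw [(hr z₁' hg₁).1, (hr z₁' hg₁).2]; exact he₁₂
      · rw [(hr z₂' hg₂).1, (hr z₂' hg₂).2]; exact he₂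
    exact .trans _ _ _ hx₁ (.trans _ _ _ step₁ (.trans _ _ _ step₂ (.symm _ _ hx₂)))

end Induction

/-- The Hilbert scheme of points of a connected projective scheme of positive dimension is connected. -/
theorem connectedSpace_hilb [IsAlgClosed k] (P : Over (Spec (CommRingCat.of k))) (hproj : Neron.IsProjectiveOver k P)
    [ConnectedSpace P.left] (hdim : 0 < topologicalKrullDim P.left) (n : ℕ) (H : Over (Spec (CommRingCat.of k)))
    (Z : HilbD.Obj P.hom n H) (hH : HilbD.IsUniversal P.hom n H Z) : ConnectedSpace H.left := by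
  haveI := isProper_of_isProjectiveOver hproj
  haveI : IsLocallyNoetherian P.left := LocallyOfFiniteType.isLocallyNoetherian P.hom
  haveI : CompactSpace P.left := QuasiCompact.compactSpace_of_compactSpace P.hom
  haveI : IsNoetherian P.left := {}
  obtain ⟨hne, hz⟩ := main (f := P.hom) (exists_affine_of_finite hproj) (eq_empty_of_finite_open hdim)
    zig_of_noetherian n H Z hH
  exact connectedSpace_of_zig hz

end Groth.Agent.HilbConn
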