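import Groth.Agent.Punct.Pencil
import Mathlib

/-!
# Extensions of ideals of colength `n` by one point: base change, existence, pencils, limits
-/

set_option autoImplicit false
set_option maxSynthPendingDepth 3
set_option linter.style.haveILetI false
universe u

open scoped TensorProduct

noncomputable section

namespace Groth.Agent.HilbConn

open Groth.Agent.Punct

variable {k A : Type u} [Field k] [CommRing A] [Algebra k A] {n : ℕ}
  {B C : Type u} [CommRing B] [Algebra k B] [CommRing C] [Algebra k C]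

/-- Change of the base ring on `B ⊗ A`. -/
abbrev bc (A : Type u) [CommRing A] [Algebra k A] (φ : B →ₐ[k] C) : B ⊗[k] A →ₐ[k] C ⊗[k] A :=
  Algebra.TensorProduct.map φ (AlgHom.id k A)

theorem bc_smul (φ : B →ₐ[k] C) (c : B) (x : B ⊗[k] A) : bc A φ (c • x) = φ c • bc A φ x := by
  rw [Algebra.smul_def, Algebra.smul_def, map_mul]
  simp [Algebra.TensorProduct.algebraMap_apply]

/-- The map induced on quotients. -/
def quotMap (φ : B →ₐ[k] C) (J : Ideal (B ⊗[k] A)) :
    (B ⊗[k] A) ⧸ J →+* (C ⊗[k] A) ⧸ J.map (bc A φ).toRingHom :=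
  Ideal.quotientMap _ (bc A φ).toRingHom Ideal.le_comap_map

/-- Base change of a quotient with basis. -/
theorem bijective_map (φ : B →ₐ[k] C) {J : Ideal (B ⊗[k] A)} {v : Fin n → (B ⊗[k] A) ⧸ J}
    (hv : Function.Bijective fun c : Fin n → B => ∑ i, algebraMap B _ (c i) * v i) :
    Function.Bijective fun c : Fin n → C => ∑ i, algebraMap C _ (c i) * quotMap φ J (v i) := by
  classical
  let L : (Fin n → B) ≃ₗ[B] (B ⊗[k] A) ⧸ J :=
    LinearEquiv.ofBijective (Fintype.linearCombination B v) (by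
      convert hv using 1
      funext c
      simp [Fintype.linearCombination_apply, Algebra.smul_def])
  let Φ : B ⊗[k] A →ₗ[B] (Fin n → B) := L.symm.toLinearMap.comp (Ideal.Quotient.mkₐ B J).toLinearMap
  let Φ₀ : A →ₗ[k] (Fin n → C) :=
    { toFun := fun a i => φ (Φ ((1 : B) ⊗ₜ[k] a) i)
      map_add' := fun a a' => by funext i; simp [TensorProduct.tmul_add]
      map_smul' := fun r a => by
        funext i
        simp only [TensorProduct.tmul_smul, RingHom.id_apply, Pi.smul_apply]
        rw [algebra_compatible_smul B r, map_smul, Pi.smul_apply, smul_eq_mul, map_mul, AlgHom.commutes,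
          Algebra.smul_def] }
  let ΦC : C ⊗[k] A →ₗ[C] (Fin n → C) := Φ₀.liftBaseChange C
  have hΦC : ∀ x, ΦC (bc A φ x) = fun i => φ (Φ x i) := by
    intro x
    induction x using TensorProduct.induction_on with
    | zero => funext i; simp
    | add x y hx hy => funext i; simp [map_add, hx, hy]
    | tmul c a =>
      have e1 : c ⊗ₜ[k] a = c • ((1 : B) ⊗ₜ[k] a) := by rw [TensorProduct.smul_tmul', smul_eq_mul, mul_one]
      funext i
      simp only [Algebra.TensorProduct.map_tmul, AlgHom.id_apply, ΦC, LinearMap.liftBaseChange_tmul, Φ₀,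
        LinearMap.coe_mk, AddHom.coe_mk, Pi.smul_apply, smul_eq_mul]
      rw [e1, map_smul, Pi.smul_apply, smul_eq_mul, map_mul]
  have hJ : ∀ x ∈ J.map (bc A φ).toRingHom, ∀ y, ΦC (y * x) = 0 := by
    intro x hx
    induction hx using Submodule.span_induction with
    | zero => simp
    | add x x' _ _ h h' => intro y; rw [mul_add, map_add, h, h', add_zero]
    | smul r x _ h => intro y; rw [smul_eq_mul, ← mul_assoc]; exact h _
    | mem x hx =>
      obtain ⟨j, hj, rfl⟩ := hx
      intro y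
      induction y using TensorProduct.induction_on with
      | zero => simp
      | add y y' hy hy' => rw [add_mul, map_add, hy, hy', add_zero]
      | tmul c a =>
        have e1 : (c ⊗ₜ[k] a) * (bc A φ).toRingHom j = c • bc A φ (((1 : B) ⊗ₜ[k] a) * j) := by
          rw [Algebra.smul_def, map_mul, ← mul_assoc]
          congr 1
          simp [Algebra.TensorProduct.algebraMap_apply]
        have e2 : Φ (((1 : B) ⊗ₜ[k] a) * j) = 0 := by
          show L.symm (Ideal.Quotient.mk J _) = 0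
          rw [Ideal.Quotient.eq_zero_iff_mem.2 (J.mul_mem_left _ hj), map_zero]
        rw [e1, map_smul, hΦC, e2]
        funext i; simp
  let w : Fin n → B ⊗[k] A := fun i => (Ideal.Quotient.mk_surjective (v i)).choose
  have hw : ∀ i, Ideal.Quotient.mk J (w i) = v i := fun i => (Ideal.Quotient.mk_surjective (v i)).choose_spec
  have hΦw : ∀ i, Φ (w i) = Pi.single i 1 := fun i => by
    show L.symm (Ideal.Quotient.mk J (w i)) = _
    rw [hw, L.symm_apply_eq]
    simp [L, Fintype.linearCombination_apply_single]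
  let G : (Fin n → C) →ₗ[C] C ⊗[k] A := Fintype.linearCombination C fun i => bc A φ (w i)
  have hG : (fun c : Fin n → C => ∑ i, algebraMap C ((C ⊗[k] A) ⧸ J.map (bc A φ).toRingHom) (c i) *
      quotMap φ J (v i)) = fun c => Ideal.Quotient.mk _ (G c) := by
    funext c
    simp only [G, Fintype.linearCombination_apply, map_sum]
    refine Finset.sum_congr rfl fun i _ => ?_
    rw [Algebra.smul_def, map_mul, ← hw]
    rfl
  rw [hG]
  have hΦG : ∀ c, ΦC (G c) = c := by
    intro c
    simp only [G, Fintype.linearCombination_apply, map_sum, map_smul, hΦC, hΦw]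
    funext i
    simp [Finset.sum_apply, Pi.single_apply, apply_ite φ, mul_ite]
  constructor
  · intro c c' h
    have h1 := hJ _ (Ideal.Quotient.eq.1 h) 1
    rwa [one_mul, map_sub, hΦG, hΦG, sub_eq_zero] at h1
  · intro y
    obtain ⟨y, rfl⟩ := Ideal.Quotient.mk_surjective y
    induction y using TensorProduct.induction_on with
    | zero => exact ⟨0, by simp⟩
    | add y y' hy hy' =>
      obtain ⟨c, hc⟩ := hy
      obtain ⟨c', hc'⟩ := hy'
      exact ⟨c + c', by
        show Ideal.Quotient.mk _ (G (c + c')) = _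
        rw [map_add, map_add, map_add]; exact congrArg₂ (· + ·) hc hc'⟩
    | tmul c a =>
      obtain ⟨d, hd⟩ := hv.2 (Ideal.Quotient.mk J ((1 : B) ⊗ₜ[k] a))
      refine ⟨c • fun i => φ (d i), ?_⟩
      show Ideal.Quotient.mk _ (G (c • fun i => φ (d i))) = _
      have e1 : c ⊗ₜ[k] a = c • bc A φ ((1 : B) ⊗ₜ[k] a) := by simp [TensorProduct.smul_tmul']
      have e2 : G (fun i => φ (d i)) = bc A φ (∑ i, d i • w i) := by
        simp only [G, Fintype.linearCombination_apply, map_sum, bc_smul]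
      rw [e1, map_smul, e2, ← Ideal.Quotient.mkₐ_eq_mk C, map_smul, map_smul, Ideal.Quotient.mkₐ_eq_mk]
      congr 1
      rw [Ideal.Quotient.eq, ← map_sub]
      refine Ideal.mem_map_of_mem (bc A φ).toRingHom (Ideal.Quotient.eq.1 ?_)
      rw [map_sum, ← hd]
      refine Finset.sum_congr rfl fun i _ => ?_
      rw [Algebra.smul_def, map_mul, hw]
      rfl

theorem hasBasis_map (φ : B →ₐ[k] C) {J : Ideal (B ⊗[k] A)} (h : HasBasis n J) :
    HasBasis n (J.map (bc A φ).toRingHom) := by
  obtain ⟨v, hv⟩ := h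
  exact ⟨_, bijective_map φ hv⟩

/-- Evaluation at a `B`-valued point. -/
abbrev ev (y : A →ₐ[k] B) : B ⊗[k] A →ₐ[B] B := Algebra.TensorProduct.lift (AlgHom.id B B) y fun _ _ => Commute.all _ _

theorem ev_bc (φ : B →ₐ[k] C) (y : A →ₐ[k] B) (x : B ⊗[k] A) : ev (φ.comp y) (bc A φ x) = φ (ev y x) := by
  induction x using TensorProduct.induction_on with
  | zero => simp
  | add x y hx hy => simp only [map_add, hx, hy]
  | tmul c a => simp

theorem sub_ev_mem (y : A →ₐ[k] B) (x : B ⊗[k] A) : x - algebraMap B _ (ev y x) ∈ RingHom.ker (ev y) := by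
  simp [RingHom.mem_ker]

theorem ker_ev_map (φ : B →ₐ[k] C) (y : A →ₐ[k] B) :
    (RingHom.ker (ev y)).map (bc A φ).toRingHom = RingHom.ker (ev (φ.comp y)) := by
  refine le_antisymm (Ideal.map_le_iff_le_comap.2 fun x hx => ?_) fun x hx => ?_
  · rw [RingHom.mem_ker] at hx
    show ev (φ.comp y) (bc A φ x) = 0
    rw [ev_bc, hx, map_zero]
  · have key : ∀ x : C ⊗[k] A, x - algebraMap C _ (ev (φ.comp y) x) ∈ (RingHom.ker (ev y)).map (bc A φ).toRingHom := by
      intro x
      induction x using TensorProduct.induction_on with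
      | zero => simp
      | add x x' hx hx' =>
        rw [map_add, map_add, add_sub_add_comm]
        exact add_mem hx hx'
      | tmul c a =>
        have e : c ⊗ₜ[k] a - algebraMap C _ (ev (φ.comp y) (c ⊗ₜ[k] a)) = algebraMap C (C ⊗[k] A) c *
            (bc A φ).toRingHom ((1 : B) ⊗ₜ[k] a - algebraMap B _ (ev y ((1 : B) ⊗ₜ[k] a))) := by
          simp [mul_sub, Algebra.TensorProduct.algebraMap_apply]
        rw [e]
        exact Ideal.mul_mem_left _ _ (Ideal.mem_map_of_mem _ (sub_ev_mem y _))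
    have h := key x
    rwa [RingHom.mem_ker.1 hx, map_zero, sub_zero] at h

/-- `J` is an extension of the colength `n` ideal `J'` by the point `y`. -/
def IsExtn (n : ℕ) (J' J : Ideal (B ⊗[k] A)) (y : A →ₐ[k] B) : Prop :=
  HasBasis n J' ∧ HasBasis (n + 1) J ∧ J ≤ J' ∧ RingHom.ker (ev y) * J' ≤ J

theorem IsExtn.map {J' J : Ideal (B ⊗[k] A)} {y : A →ₐ[k] B} (h : IsExtn n J' J y) (φ : B →ₐ[k] C) :
    IsExtn n (J'.map (bc A φ).toRingHom) (J.map (bc A φ).toRingHom) (φ.comp y) := by
  refine ⟨hasBasis_map φ h.1, hasBasis_map φ h.2.1, Ideal.map_mono h.2.2.1, ?_⟩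
  rw [← ker_ev_map, ← Ideal.map_mul]
  exact Ideal.map_mono h.2.2.2

section Field

variable {K : Type u} [Field K] [Algebra k K]

theorem finrank_quot_eq {J : Ideal (K ⊗[k] A)} (h : HasBasis n J) :
    Module.Finite K ((K ⊗[k] A) ⧸ J) ∧ Module.finrank K ((K ⊗[k] A) ⧸ J) = n :=
  h.finite_finrank

/-- At an isolated-point-free point a proper extension exists. -/
theorem smul_lt_of_no_finite_open (hA : ∀ U : Set (PrimeSpectrum A), IsOpen U → U.Finite → U = ∅)
    {J' : Ideal (K ⊗[k] A)} (h : HasBasis n J') [Algebra.FiniteType k A] (y : A →ₐ[k] K) :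
    RingHom.ker (ev y) * J' < J' := by
  classical
  refine lt_of_le_of_ne Ideal.mul_le_right fun heq => ?_
  haveI : Algebra.FiniteType K (K ⊗[k] A) := inferInstance
  haveI : IsNoetherianRing (K ⊗[k] A) := Algebra.FiniteType.isNoetherianRing K _
  obtain ⟨r, hr1, hr0⟩ := Submodule.exists_sub_one_mem_and_smul_eq_zero_of_fg_of_le_smul
    (RingHom.ker (ev y)) J' (IsNoetherian.noetherian J') heq.ge
  have hrP : ev y r = 1 := by
    have : ev y (r - 1) = 0 := hr1
    rwa [map_sub, map_one, sub_eq_zero] at this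
  obtain ⟨hfin, -⟩ := finrank_quot_eq h
  haveI : IsArtinianRing ((K ⊗[k] A) ⧸ J') := IsArtinianRing.of_finite K _
  have hsub : (PrimeSpectrum.basicOpen r : Set (PrimeSpectrum (K ⊗[k] A))) ⊆
      Set.range (PrimeSpectrum.comap (Ideal.Quotient.mk J')) := by
    intro P hP
    rw [range_comap_of_surjective _ _ Ideal.Quotient.mk_surjective, Ideal.mk_ker,
      PrimeSpectrum.mem_zeroLocus]
    intro x hx
    rcases P.isPrime.mem_or_mem (show r * x ∈ P.asIdeal by rw [← smul_eq_mul, hr0 x hx]; exact zero_mem _) with h' | h'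
    exacts [absurd h' hP, h']
  have hopen := PrimeSpectrum.isOpenMap_comap_algebraMap_tensorProduct_of_field (K := k) (A := A) (B := K)
  let e : A ⊗[k] K ≃+* K ⊗[k] A := (Algebra.TensorProduct.comm k A K).toRingEquiv
  have hopen' : IsOpenMap (PrimeSpectrum.comap
      (Algebra.TensorProduct.includeRight : A →ₐ[k] K ⊗[k] A).toRingHom) := by
    have hc : (Algebra.TensorProduct.includeRight : A →ₐ[k] K ⊗[k] A).toRingHom =
        e.toRingHom.comp (algebraMap A (A ⊗[k] K)) := RingHom.ext fun a => by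
      simp [e, Algebra.TensorProduct.algebraMap_apply]
    rw [hc, PrimeSpectrum.comap_comp]
    exact hopen.comp (PrimeSpectrum.homeomorphOfRingEquiv e).symm.isOpenMap
  have hz := hA _ (hopen' _ (PrimeSpectrum.basicOpen r).isOpen)
    (((Set.finite_range _).subset hsub).image _)
  rw [Set.image_eq_empty] at hz
  haveI : (RingHom.ker (ev y)).IsPrime := RingHom.ker_isPrime _
  have hmem : (⟨RingHom.ker (ev y), inferInstance⟩ : PrimeSpectrum (K ⊗[k] A)) ∈
      (PrimeSpectrum.basicOpen r : Set (PrimeSpectrum (K ⊗[k] A))) := fun h' => by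
    rw [RingHom.mem_ker, hrP] at h'
    exact one_ne_zero h'
  rw [hz] at hmem
  exact hmem

/-- An extension exists. -/
theorem exists_extn {J' : Ideal (K ⊗[k] A)} (h : HasBasis n J') (y : A →ₐ[k] K) [Algebra.FiniteType k A]
    (hlt : RingHom.ker (ev y) * J' < J') : ∃ J, IsExtn n J' J y := by
  classical
  obtain ⟨a, haI, haM⟩ := SetLike.exists_of_lt hlt
  obtain ⟨β, hβa, hβ⟩ := Submodule.exists_dual_map_eq_bot_of_notMem
    (p := (RingHom.ker (ev y) * J').restrictScalars K) haM inferInstance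
  have hβ' : ∀ x ∈ RingHom.ker (ev y) * J', β x = 0 := fun x hx => by
    rw [← Submodule.mem_bot K, ← hβ]; exact ⟨x, hx, rfl⟩
  let P : Submodule K (K ⊗[k] A) := J'.restrictScalars K ⊓ LinearMap.ker β
  let J : Ideal (K ⊗[k] A) :=
    { carrier := P, add_mem' := P.add_mem, zero_mem' := P.zero_mem,
      smul_mem' := fun r x hx => by
        obtain ⟨hxI, hxβ⟩ := hx
        refine ⟨J'.mul_mem_left r hxI, ?_⟩
        have e : r • x = (r - algebraMap K _ (ev y r)) * x + ev y r • x := by simp [Algebra.smul_def, sub_mul]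
        show β (r • x) = 0
        rw [e, map_add, map_smul, hxβ, smul_zero, add_zero,
          hβ' _ (Ideal.mul_mem_mul (sub_ev_mem y r) hxI)] }
  refine ⟨J, h, ?_, fun x hx => hx.1, fun x hx => ⟨Ideal.mul_le_right hx, hβ' x hx⟩⟩
  obtain ⟨hfin, hn⟩ := finrank_quot_eq h
  obtain ⟨v, hv⟩ := h
  let w : Fin n → K ⊗[k] A := fun i => (Ideal.Quotient.mk_surjective (v i)).choose
  have hw : ∀ i, Ideal.Quotient.mk J' (w i) = v i := fun i => (Ideal.Quotient.mk_surjective (v i)).choose_spec
  refine ⟨fun i => Ideal.Quotient.mk J ((Fin.cons a w : Fin (n + 1) → K ⊗[k] A) i), ?_⟩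
  have hsum : ∀ c : Fin (n + 1) → K, (∑ i, algebraMap K ((K ⊗[k] A) ⧸ J) (c i) * Ideal.Quotient.mk J ((Fin.cons a w : Fin (n + 1) → K ⊗[k] A) i)) =
      Ideal.Quotient.mk J (c 0 • a + ∑ i, c i.succ • w i) := by
    intro c
    rw [Fin.sum_univ_succ, map_add, map_sum, Algebra.smul_def, map_mul, Fin.cons_zero]
    congr 1
    refine Finset.sum_congr rfl fun i _ => ?_
    rw [Algebra.smul_def, map_mul, Fin.cons_succ]
    rfl
  simp only [hsum]
  constructor
  · intro c c' hcc
    have h1 : (c 0 - c' 0) • a + ∑ i : Fin n, (c i.succ - c' i.succ) • w i ∈ J := by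
      have := Ideal.Quotient.eq.1 hcc
      convert this using 1
      simp only [sub_smul, Finset.sum_sub_distrib]
      abel
    have h2 : (fun i : Fin n => c i.succ - c' i.succ) = 0 := by
      apply hv.1
      simp only [Pi.zero_apply, map_zero, zero_mul, Finset.sum_const_zero]
      have h3 := Ideal.Quotient.eq_zero_iff_mem.2 h1.1
      rw [map_add, map_sum] at h3
      rw [Ideal.Quotient.eq_zero_iff_mem.2 (Submodule.smul_of_tower_mem J' (c 0 - c' 0) haI), zero_add] at h3
      refine Eq.trans ?_ h3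
      refine Finset.sum_congr rfl fun i _ => ?_
      rw [Algebra.smul_def, map_mul, hw]
      rfl
    have h4 : c 0 = c' 0 := by
      have h5 : β ((c 0 - c' 0) • a + ∑ i : Fin n, (c i.succ - c' i.succ) • w i) = 0 := h1.2
      simp only [congrFun h2, Pi.zero_apply, zero_smul, Finset.sum_const_zero, add_zero, map_smul, smul_eq_mul,
        mul_eq_zero, hβa, or_false, sub_eq_zero] at h5
      exact h5
    funext i
    refine Fin.cases h4 (fun i => sub_eq_zero.1 (congrFun h2 i)) i
  · intro q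
    obtain ⟨x, rfl⟩ := Ideal.Quotient.mk_surjective q
    obtain ⟨d, hd⟩ := hv.2 (Ideal.Quotient.mk J' x)
    have hr : x - ∑ i, d i • w i ∈ J' := by
      rw [← Ideal.Quotient.eq, map_sum, ← hd]
      refine Finset.sum_congr rfl fun i _ => ?_
      rw [Algebra.smul_def, map_mul, hw]
      rfl
    let t := β (x - ∑ i, d i • w i) / β a
    refine ⟨Fin.cons t d, (Ideal.Quotient.eq.2 ?_).symm⟩
    simp only [Fin.cons_zero, Fin.cons_succ]
    have e : x - (t • a + ∑ i, d i • w i) = (x - ∑ i, d i • w i) - t • a := by abel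
    rw [e]
    refine ⟨sub_mem hr (Submodule.smul_of_tower_mem J' _ haI), ?_⟩
    show β _ = 0
    rw [map_sub β (x - ∑ i, d i • w i), map_smul, smul_eq_mul, div_mul_cancel₀ _ hβa, sub_self]

/-- Two extensions lie in a pencil. -/
theorem exists_pencil {J' J₁ J₂ : Ideal (K ⊗[k] A)} {y : A →ₐ[k] K} (h₁ : IsExtn n J' J₁ y) (h₂ : IsExtn n J' J₂ y)
    (hne : J₁ ≠ J₂) : Nonempty (Pencil (K := K) J₁ J₂) := by
  classical
  obtain ⟨hJ', hJ₁, hle₁, hP₁⟩ := h₁
  obtain ⟨-, hJ₂, hle₂, hP₂⟩ := h₂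
  have key : ∀ {J : Ideal (K ⊗[k] A)} (hJ : HasBasis (n + 1) J) (hle : J ≤ J') {x : K ⊗[k] A}, x ∈ J' → x ∉ J →
      ∀ z ∈ J', ∃ c : K, z - c • x ∈ J := by
    intro J hJ hle x hx hxJ z hz
    obtain ⟨hf1, hn1⟩ := finrank_quot_eq hJ
    obtain ⟨hf2, hn2⟩ := finrank_quot_eq hJ'
    let q : ((K ⊗[k] A) ⧸ J) →ₗ[K] (K ⊗[k] A) ⧸ J' := (Ideal.Quotient.factorₐ K hle).toLinearMap
    have hq : Function.Surjective q := Ideal.Quotient.factor_surjective hle
    have hker : Module.finrank K ↥(LinearMap.ker q) = 1 := by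
      have := LinearMap.finrank_range_add_finrank_ker q
      rw [LinearMap.range_eq_top.2 hq, finrank_top, hn1, hn2] at this
      omega
    let x' : LinearMap.ker q := ⟨Ideal.Quotient.mk J x, (Ideal.Quotient.eq_zero_iff_mem).2 hx⟩
    have hx' : x' ≠ 0 := fun h => hxJ (Ideal.Quotient.eq_zero_iff_mem.1 (congrArg Subtype.val h))
    obtain ⟨c, hc⟩ := (finrank_eq_one_iff_of_nonzero' x' hx').1 hker
      ⟨Ideal.Quotient.mk J z, (Ideal.Quotient.eq_zero_iff_mem).2 hz⟩
    refine ⟨c, Ideal.Quotient.eq_zero_iff_mem.1 ?_⟩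
    rw [map_sub, sub_eq_zero]
    refine (congrArg Subtype.val hc).symm.trans ?_
    exact (map_smul (Ideal.Quotient.mkₐ K J) c x).symm
  have hnle : ∀ {I H : Ideal (K ⊗[k] A)}, HasBasis (n + 1) I → HasBasis (n + 1) H → I ≤ H → I = H := by
    intro I H hI hH hle
    obtain ⟨hf1, hn1⟩ := finrank_quot_eq hI
    obtain ⟨hf2, hn2⟩ := finrank_quot_eq hH
    let q : ((K ⊗[k] A) ⧸ I) →ₗ[K] (K ⊗[k] A) ⧸ H := (Ideal.Quotient.factorₐ K hle).toLinearMap
    have hq : Function.Surjective q := Ideal.Quotient.factor_surjective hle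
    refine le_antisymm hle fun z hz => ?_
    rw [← Ideal.Quotient.eq_zero_iff_mem]
    refine ((LinearMap.injective_iff_surjective_of_finrank_eq_finrank (by rw [hn1, hn2])).2 hq) ?_
    rw [map_zero]
    exact Ideal.Quotient.eq_zero_iff_mem.2 hz
  obtain ⟨a, ha₁, ha₂⟩ := SetLike.not_le_iff_exists.1 fun h => hne (hnle hJ₁ hJ₂ h)
  obtain ⟨b, hb₂, hb₁⟩ := SetLike.not_le_iff_exists.1 fun h => hne (hnle hJ₂ hJ₁ h).symm
  have hq : a ∉ (J₁ ⊓ J₂).restrictScalars K ⊔ K ∙ (b - a) := by
    intro h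
    obtain ⟨w, hw, z, hz, hwz⟩ := Submodule.mem_sup.1 h
    obtain ⟨c, rfl⟩ := Submodule.mem_span_singleton.1 hz
    rcases eq_or_ne c 0 with rfl | hc
    · simp only [zero_smul, add_zero] at hwz
      exact ha₂ (hwz ▸ hw.2)
    · refine hb₁ ?_
      have : c • b ∈ J₁.restrictScalars K := by
        have e : c • b = a + c • a - w := by
          nth_rw 1 [← hwz]
          rw [smul_sub]; abel
        rw [e]
        exact sub_mem (add_mem ha₁ (Submodule.smul_mem (J₁.restrictScalars K) c ha₁)) hw.1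
      exact (Submodule.smul_mem_iff _ hc).1 this
  obtain ⟨γ, hγa, hγ⟩ := Submodule.exists_dual_map_eq_bot_of_notMem hq inferInstance
  have hγ' : ∀ x ∈ (J₁ ⊓ J₂).restrictScalars K ⊔ K ∙ (b - a), γ x = 0 := fun x hx => by
    rw [← Submodule.mem_bot K, ← hγ]; exact ⟨x, hx, rfl⟩
  refine ⟨⟨J₁ ⊓ J₂, a, b, (γ a)⁻¹ • γ, inf_le_left, inf_le_right, ha₁, hb₂, fun w hw => ?_,
    by simp [hγa], ?_, fun x hx => ?_, fun x => ?_⟩⟩
  · simp [hγ' w (Submodule.mem_sup_left hw)]
  · have h := hγ' (b - a) (Submodule.mem_sup_right (Submodule.mem_span_singleton_self _))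
    rw [map_sub, sub_eq_zero] at h
    simp [h, hγa]
  · obtain ⟨c, hc⟩ := key hJ₂ hle₂ (hle₁ ha₁) ha₂ x (hle₁ hx)
    have hw : x - c • a ∈ J₁ ⊓ J₂ := ⟨sub_mem hx (Submodule.smul_of_tower_mem J₁ c ha₁), hc⟩
    have e : γ x = c * γ a := by
      have h := hγ' _ (Submodule.mem_sup_left hw)
      rwa [map_sub, map_smul, smul_eq_mul, sub_eq_zero] at h
    have e' : ((γ a)⁻¹ • γ) x = c := by simp [e, hγa, mul_comm]
    rw [e']
    exact hw
  · refine ⟨ev y x, ?_, ?_⟩ <;> rw [Algebra.smul_def, ← sub_mul]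
    · exact ⟨hP₁ (Ideal.mul_mem_mul (sub_ev_mem y x) (hle₁ ha₁)),
        hP₂ (Ideal.mul_mem_mul (sub_ev_mem y x) (hle₁ ha₁))⟩
    · exact ⟨hP₁ (Ideal.mul_mem_mul (sub_ev_mem y x) (hle₂ hb₂)),
        hP₂ (Ideal.mul_mem_mul (sub_ev_mem y x) (hle₂ hb₂))⟩

end Field

section Limit

variable {V K : Type u} [CommRing V] [IsDomain V] [ValuationRing V] [Algebra k V]
  [Field K] [Algebra k K] [Algebra V K] [IsScalarTower k V K] [IsFractionRing V K]

/-- Extensions have limits over valuation rings. -/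
theorem exists_extn_limit [Algebra.FiniteType k A] {J' : Ideal (V ⊗[k] A)} (h' : HasBasis n J') (y : A →ₐ[k] V)
    {JK : Ideal (K ⊗[k] A)}
    (hK : IsExtn n (J'.map (bc A (IsScalarTower.toAlgHom k V K)).toRingHom) JK ((IsScalarTower.toAlgHom k V K).comp y)) :
    ∃ J : Ideal (V ⊗[k] A), IsExtn n J' J y ∧ J.map (bc A (IsScalarTower.toAlgHom k V K)).toRingHom ≤ JK := by
  classical
  let φ := IsScalarTower.toAlgHom k V K
  let τ := (bc A φ).toRingHom
  obtain ⟨-, hJK, hle, hP⟩ := hK
  obtain ⟨v, hv⟩ := id h'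
  let J := JK.comap τ
  have hJJ' : J ≤ J' := by
    intro x hx
    obtain ⟨c, hc⟩ := hv.2 (Ideal.Quotient.mk J' x)
    have h0 : Ideal.Quotient.mk (J'.map τ) (τ x) = 0 := Ideal.Quotient.eq_zero_iff_mem.2 (hle hx)
    have h1 : (fun i => φ (c i)) = (0 : Fin n → K) := by
      apply (bijective_map φ hv).1
      simp only [Pi.zero_apply, map_zero, zero_mul, Finset.sum_const_zero]
      rw [← h0]
      show _ = quotMap φ J' (Ideal.Quotient.mk J' x)
      rw [← hc, map_sum]
      refine Finset.sum_congr rfl fun i _ => ?_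
      rw [map_mul]
      refine congrArg (· * _) ?_
      show _ = Ideal.Quotient.mk _ (bc A φ (algebraMap V (V ⊗[k] A) (c i)))
      rw [Algebra.TensorProduct.algebraMap_apply, Algebra.algebraMap_self, RingHom.id_apply,
        Algebra.TensorProduct.map_tmul, map_one]
      rfl
    have h2 : c = 0 := funext fun i => IsFractionRing.injective V K (by simpa [φ] using congrFun h1 i)
    rw [← Ideal.Quotient.eq_zero_iff_mem, ← hc, h2]
    simp
  have hPJ : RingHom.ker (ev y) * J' ≤ J := by
    rw [← Ideal.map_le_iff_le_comap, Ideal.map_mul, ker_ev_map]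
    exact hP
  refine ⟨J, ⟨h', ?_, hJJ', hPJ⟩, Ideal.map_comap_le⟩
  -- the quotient is finite and torsion free
  haveI : Algebra.FinitePresentation k A := (Algebra.FinitePresentation.of_finiteType).1 inferInstance
  haveI : Algebra.FinitePresentation V (V ⊗[k] A) := inferInstance
  let L' : (Fin n → V) →ₗ[V] (V ⊗[k] A) ⧸ J' := Fintype.linearCombination V v
  have hL' : Function.Bijective L' := by
    convert hv using 1
    funext c
    simp [L', Fintype.linearCombination_apply, Algebra.smul_def]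
  haveI : Module.Finite V ((V ⊗[k] A) ⧸ J') := Module.Finite.equiv (LinearEquiv.ofBijective L' hL')
  haveI : Module.Free V ((V ⊗[k] A) ⧸ J') := Module.Free.of_equiv (LinearEquiv.ofBijective L' hL')
  haveI : Module.FinitePresentation V ((V ⊗[k] A) ⧸ J') := Module.finitePresentation_of_projective V _
  haveI : Algebra.FinitePresentation V ((V ⊗[k] A) ⧸ J') := Algebra.FinitePresentation.of_finitePresentation _ _
  have hfg : J'.FG := by
    have := Algebra.FinitePresentation.ker_fG_of_surjective (Ideal.Quotient.mkₐ V J') Ideal.Quotient.mk_surjective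
    change (RingHom.ker (Ideal.Quotient.mk J')).FG at this
    rwa [Ideal.mk_ker] at this
  obtain ⟨m, g, hg⟩ := Submodule.fg_iff_exists_fin_generating_family.1 hfg
  let w : Fin n → V ⊗[k] A := fun i => (Ideal.Quotient.mk_surjective (v i)).choose
  have hw : ∀ i, Ideal.Quotient.mk J' (w i) = v i := fun i => (Ideal.Quotient.mk_surjective (v i)).choose_spec
  let G : (Fin n ⊕ Fin m → V) →ₗ[V] (V ⊗[k] A) ⧸ J :=
    Fintype.linearCombination V fun s => Ideal.Quotient.mk J (Sum.elim w g s)
  haveI : Module.Finite V ((V ⊗[k] A) ⧸ J) := Module.Finite.of_surjective G (by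
    intro q
    obtain ⟨x, rfl⟩ := Ideal.Quotient.mk_surjective q
    obtain ⟨d, hd⟩ := hv.2 (Ideal.Quotient.mk J' x)
    have hr : x - ∑ i, d i • w i ∈ J' := by
      rw [← Ideal.Quotient.eq, map_sum, ← hd]
      refine Finset.sum_congr rfl fun i _ => ?_
      rw [Algebra.smul_def, map_mul, hw]
      rfl
    rw [← hg] at hr
    obtain ⟨r, hr⟩ := (Submodule.mem_span_range_iff_exists_fun _).1 hr
    refine ⟨Sum.elim d fun l => ev y (r l), ?_⟩
    simp only [G, Fintype.linearCombination_apply, Fintype.sum_sum_type, Sum.elim_inl, Sum.elim_inr,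
      ← Ideal.Quotient.mkₐ_eq_mk V, ← map_smul, ← map_sum, ← map_add]
    refine (Ideal.Quotient.eq.2 ?_).symm
    have e : x - ((∑ i, d i • w i) + ∑ l, ev y (r l) • g l) = ∑ l, (r l - algebraMap V _ (ev y (r l))) * g l := by
      simp only [sub_mul, Finset.sum_sub_distrib, ← Algebra.smul_def]
      rw [show ∑ l, r l * g l = x - ∑ i, d i • w i from hr]
      abel
    rw [e]
    exact Ideal.sum_mem _ fun l _ => hPJ (Ideal.mul_mem_mul (sub_ev_mem y _)
      (hg ▸ Submodule.subset_span ⟨l, rfl⟩)))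
  have hτc : ∀ (c : V) (x : V ⊗[k] A), τ (c • x) = algebraMap V K c • τ x := fun c x => bc_smul φ c x
  have htor : Submodule.torsion V ((V ⊗[k] A) ⧸ J) = ⊥ := by
    rw [eq_bot_iff]
    rintro q ⟨⟨c, hc⟩, hcq⟩
    obtain ⟨x, rfl⟩ := Ideal.Quotient.mk_surjective q
    rw [Submodule.mem_bot, Ideal.Quotient.eq_zero_iff_mem]
    change c • Ideal.Quotient.mk J x = 0 at hcq
    rw [← Ideal.Quotient.mkₐ_eq_mk V, ← map_smul, Ideal.Quotient.mkₐ_eq_mk, Ideal.Quotient.eq_zero_iff_mem] at hcq
    change τ (c • x) ∈ JK at hcq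
    rw [hτc] at hcq
    have hc0 : algebraMap V K c ≠ 0 := IsFractionRing.to_map_ne_zero_of_mem_nonZeroDivisors hc
    exact (Submodule.smul_mem_iff (JK.restrictScalars K) hc0).1 hcq
  haveI : Module.Flat V ((V ⊗[k] A) ⧸ J) := Module.Flat.flat_iff_torsion_eq_bot_of_isBezout.2 htor
  haveI : Module.Free V ((V ⊗[k] A) ⧸ J) := Module.free_of_flat_of_isLocalRing
  let b := Module.Free.chooseBasis V ((V ⊗[k] A) ⧸ J)
  -- the rank
  let τ' : (V ⊗[k] A) ⧸ J →ₗ[V] (K ⊗[k] A) ⧸ JK :=
    { toFun := Ideal.quotientMap JK τ le_rfl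
      map_add' := map_add _
      map_smul' := fun c q => by
        obtain ⟨x, rfl⟩ := Ideal.Quotient.mk_surjective q
        rw [RingHom.id_apply, ← Ideal.Quotient.mkₐ_eq_mk V, ← map_smul]
        show Ideal.Quotient.mkₐ K JK (τ (c • x)) = c • Ideal.Quotient.mkₐ K JK (τ x)
        rw [hτc, map_smul, algebraMap_smul] }
  have hinj : Function.Injective τ' := by
    intro p q hpq
    obtain ⟨x, rfl⟩ := Ideal.Quotient.mk_surjective p
    obtain ⟨z, rfl⟩ := Ideal.Quotient.mk_surjective q
    refine Ideal.Quotient.eq.2 ?_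
    show τ (x - z) ∈ JK
    rw [map_sub]
    exact Ideal.Quotient.eq.1 hpq
  have hli : LinearIndependent K (τ' ∘ b) :=
    (LinearIndependent.iff_fractionRing (R := V) (K := K)).1 (b.linearIndependent.map' τ' (LinearMap.ker_eq_bot.2 hinj))
  have hsp : ⊤ ≤ Submodule.span K (Set.range (τ' ∘ b)) := by
    rintro q -
    obtain ⟨z, rfl⟩ := Ideal.Quotient.mk_surjective q
    induction z using TensorProduct.induction_on with
    | zero => simp
    | add z z' hz hz' => rw [map_add]; exact add_mem hz hz'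
    | tmul c a =>
      have e : Ideal.Quotient.mk JK (c ⊗ₜ[k] a) = c • τ' (Ideal.Quotient.mk J ((1 : V) ⊗ₜ[k] a)) := by
        show _ = c • Ideal.Quotient.mkₐ K JK (τ ((1 : V) ⊗ₜ[k] a))
        rw [← map_smul]
        simp [τ, TensorProduct.smul_tmul']
      rw [e, ← b.sum_repr (Ideal.Quotient.mk J ((1 : V) ⊗ₜ[k] a)), map_sum]
      refine Submodule.smul_mem _ _ (sum_mem fun i _ => ?_)
      rw [map_smul, ← algebraMap_smul K]
      exact Submodule.smul_mem _ _ (Submodule.subset_span ⟨i, rfl⟩)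
  have hcard : Fintype.card (Module.Free.ChooseBasisIndex V ((V ⊗[k] A) ⧸ J)) = n + 1 := by
    obtain ⟨hf, hn⟩ := finrank_quot_eq hJK
    rw [← hn, Module.finrank_eq_card_basis (Module.Basis.mk hli hsp)]
  let b' := b.reindex (Fintype.equivFinOfCardEq hcard)
  refine ⟨b', ?_⟩
  convert b'.equivFun.symm.bijective using 1
  funext c
  rw [Module.Basis.equivFun_symm_apply]
  simp [Algebra.smul_def]

end Limit

end Groth.Agent.HilbConn
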