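import Groth.Agent.HilbConn.Affine
import Groth.Agent.RankLocus.Alg
import Mathlib

/-!
# Spreading ideals out over finitely generated algebras, and removing a point
-/

set_option autoImplicit false
set_option maxSynthPendingDepth 3
set_option linter.style.haveILetI false
universe u

open scoped TensorProduct

noncomputable section

namespace Groth.Agent.HilbConn

open Groth.Agent.Punct

variable {k A : Type u} [Field k] [CommRing A] [Algebra k A] {n : ℕ} {K : Type u} [Field K] [Algebra k K]

theorem eq_of_le {I H : Ideal (K ⊗[k] A)} (hI : HasBasis n I) (hH : HasBasis n H) (hle : I ≤ H) : I = H := by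
  obtain ⟨hf1, hn1⟩ := finrank_quot_eq hI
  obtain ⟨hf2, hn2⟩ := finrank_quot_eq hH
  let q : ((K ⊗[k] A) ⧸ I) →ₗ[K] (K ⊗[k] A) ⧸ H := (Ideal.Quotient.factorₐ K hle).toLinearMap
  have hq : Function.Surjective q := Ideal.Quotient.factor_surjective hle
  refine le_antisymm hle fun z hz => ?_
  rw [← Ideal.Quotient.eq_zero_iff_mem]
  refine ((LinearMap.injective_iff_surjective_of_finrank_eq_finrank (by rw [hn1, hn2])).2 hq) ?_
  rw [map_zero]
  exact Ideal.Quotient.eq_zero_iff_mem.2 hz

/-- An ideal of colength `n` is defined over a finitely generated subalgebra. -/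
theorem exists_spread [Algebra.FiniteType k A] {J : Ideal (K ⊗[k] A)} (h : HasBasis n J) :
    ∃ (B : Subalgebra k K) (JB : Ideal (↥B ⊗[k] A)), Algebra.FiniteType k ↥B ∧ HasBasis n JB ∧
      JB.map (bc A B.val).toRingHom = J := by
  classical
  obtain ⟨v, hv⟩ := id h
  let L : (Fin n → K) ≃ₗ[K] (K ⊗[k] A) ⧸ J :=
    LinearEquiv.ofBijective (Fintype.linearCombination K v) (by
      convert hv using 1
      funext c
      simp [Fintype.linearCombination_apply, Algebra.smul_def])
  let w : Fin n → K ⊗[k] A := fun i => (Ideal.Quotient.mk_surjective (v i)).choose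
  have hw : ∀ i, Ideal.Quotient.mk J (w i) = v i := fun i => (Ideal.Quotient.mk_surjective (v i)).choose_spec
  let d : K ⊗[k] A →ₗ[K] (Fin n → K) := L.symm.toLinearMap.comp (Ideal.Quotient.mkₐ K J).toLinearMap
  have hd : ∀ x, Ideal.Quotient.mk J x = ∑ i, algebraMap K _ (d x i) * v i := fun x => by
    refine (L.apply_symm_apply (Ideal.Quotient.mk J x)).symm.trans ?_
    show Fintype.linearCombination K v (d x) = _
    simp [Fintype.linearCombination_apply, Algebra.smul_def]
  have hd0 : ∀ x, x ∈ J → d x = 0 := fun x hx => by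
    show L.symm (Ideal.Quotient.mk J x) = 0
    rw [Ideal.Quotient.eq_zero_iff_mem.2 hx, map_zero]
  have hd1 : ∀ x z, Ideal.Quotient.mk J x = Ideal.Quotient.mk J z → d x = d z := fun x z h => by
    show L.symm (Ideal.Quotient.mk J x) = L.symm (Ideal.Quotient.mk J z)
    rw [h]
  have hdw : ∀ i, d (w i) = Pi.single i 1 := fun i => by
    show L.symm (Ideal.Quotient.mk J (w i)) = _
    rw [hw, L.symm_apply_eq]
    simp [L, Fintype.linearCombination_apply_single]
  obtain ⟨gs, hgs⟩ := Algebra.FiniteType.out (R := k) (A := A)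
  have hlift : ∀ x : K ⊗[k] A, ∃ S : Finset K, ∀ B : Subalgebra k K, (S : Set K) ⊆ B →
      ∃ x₀ : ↥B ⊗[k] A, bc A B.val x₀ = x := by
    intro x
    induction x using TensorProduct.induction_on with
    | zero => exact ⟨∅, fun B _ => ⟨0, map_zero _⟩⟩
    | tmul c a => exact ⟨{c}, fun B hB => ⟨⟨c, hB (by simp)⟩ ⊗ₜ[k] a, by simp⟩⟩
    | add x y hx hy =>
      obtain ⟨S, hS⟩ := hx
      obtain ⟨T, hT⟩ := hy
      refine ⟨S ∪ T, fun B hB => ?_⟩
      obtain ⟨x₀, h1⟩ := hS B fun c hc => hB (Finset.mem_coe.2 (Finset.mem_union_left _ hc))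
      obtain ⟨y₀, h2⟩ := hT B fun c hc => hB (Finset.mem_coe.2 (Finset.mem_union_right _ hc))
      exact ⟨x₀ + y₀, by rw [map_add, h1, h2]⟩
  choose S hS using hlift
  let S₀ : Finset K := Finset.univ.biUnion (fun i => S (w i)) ∪ Finset.univ.image (d 1) ∪
    gs.biUnion fun a => Finset.univ.image fun p : Fin n × Fin n => d (((1 : K) ⊗ₜ[k] a) * w p.1) p.2
  let B : Subalgebra k K := Algebra.adjoin k (S₀ : Set K)
  haveI hBft : Algebra.FiniteType k ↥B := (Subalgebra.fg_iff_finiteType B).1 ⟨S₀, rfl⟩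
  have hsub : (S₀ : Set K) ⊆ B := Algebra.subset_adjoin
  choose w₀ hw₀ using fun i => hS (w i) B fun c hc => hsub (Finset.mem_coe.2 (Finset.mem_union_left _
    (Finset.mem_union_left _ (Finset.mem_biUnion.2 ⟨i, Finset.mem_univ i, hc⟩))))
  have hd1B : ∀ j, d 1 j ∈ B := fun j => hsub (Finset.mem_coe.2 (Finset.mem_union_left _
    (Finset.mem_union_right _ (Finset.mem_image.2 ⟨j, Finset.mem_univ j, rfl⟩))))
  have hmul : ∀ (x : K ⊗[k] A) (i : Fin n), d (x * w i) = fun j => d (x * w i) j := fun _ _ => rfl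
  have hexp : ∀ x z : K ⊗[k] A, d (x * z) = ∑ l, d z l • d (x * w l) := by
    intro x z
    have e : Ideal.Quotient.mk J (x * z) = Ideal.Quotient.mk J (∑ l, d z l • (x * w l)) := by
      rw [map_mul, hd z, map_sum, Finset.mul_sum]
      refine Finset.sum_congr rfl fun l _ => ?_
      rw [Algebra.smul_def, map_mul, map_mul, hw]
      exact mul_left_comm _ _ _
    rw [hd1 _ _ e, map_sum]
    simp only [map_smul]
  let P : Subalgebra k A :=
    { carrier := {a | ∀ i j, d (((1 : K) ⊗ₜ[k] a) * w i) j ∈ B}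
      mul_mem' := by
        intro a b ha hb i j
        have e : ((1 : K) ⊗ₜ[k] (a * b)) * w i = ((1 : K) ⊗ₜ[k] a) * (((1 : K) ⊗ₜ[k] b) * w i) := by
          rw [← mul_assoc, Algebra.TensorProduct.tmul_mul_tmul, one_mul]
        rw [e, hexp, Finset.sum_apply]
        exact Subalgebra.sum_mem _ fun l _ => Subalgebra.mul_mem _ (hb i l) (ha l j)
      add_mem' := by
        intro a b ha hb i j
        rw [TensorProduct.tmul_add, add_mul, map_add, Pi.add_apply]
        exact Subalgebra.add_mem _ (ha i j) (hb i j)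
      algebraMap_mem' := by
        intro c i j
        have e : ((1 : K) ⊗ₜ[k] algebraMap k A c) * w i = algebraMap k K c • w i := by
          rw [Algebra.smul_def, Algebra.TensorProduct.algebraMap_apply, Algebra.algebraMap_self, RingHom.id_apply,
            Algebra.algebraMap_eq_smul_one, Algebra.algebraMap_eq_smul_one, TensorProduct.smul_tmul]
        rw [e, map_smul, hdw, Pi.smul_apply, smul_eq_mul]
        refine Subalgebra.mul_mem _ (Subalgebra.algebraMap_mem _ _) ?_
        rw [Pi.single_apply]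
        split_ifs
        exacts [Subalgebra.one_mem _, Subalgebra.zero_mem _] }
  have hP : ∀ a, a ∈ P := by
    intro a
    have hle : Algebra.adjoin k (gs : Set A) ≤ P := Algebra.adjoin_le fun a ha i j =>
      hsub (Finset.mem_coe.2 (Finset.mem_union_right _ (Finset.mem_biUnion.2 ⟨a, ha,
        Finset.mem_image.2 ⟨(i, j), Finset.mem_univ _, rfl⟩⟩)))
    rw [hgs] at hle
    exact hle Algebra.mem_top
  let τ := (bc A B.val).toRingHom
  have hcoef : ∀ (x : ↥B ⊗[k] A) (j : Fin n), d (τ x) j ∈ B := by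
    intro x
    induction x using TensorProduct.induction_on with
    | zero => intro j; simp [τ]
    | add x y hx hy =>
      intro j
      rw [map_add, map_add, Pi.add_apply]
      exact Subalgebra.add_mem _ (hx j) (hy j)
    | tmul c a =>
      intro j
      have e : τ (c ⊗ₜ[k] a) = (c : K) • (((1 : K) ⊗ₜ[k] a) * 1) := by
        simp [τ, TensorProduct.smul_tmul']
      rw [e, map_smul, hexp, Pi.smul_apply, Finset.sum_apply, smul_eq_mul]
      exact Subalgebra.mul_mem _ c.2 (Subalgebra.sum_mem _ fun l _ => Subalgebra.mul_mem _ (hd1B l) (hP a l j))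
  let JB : Ideal (↥B ⊗[k] A) := J.comap τ
  have hsum : ∀ c : Fin n → ↥B, Ideal.Quotient.mk J (τ (∑ i, c i • w₀ i)) =
      ∑ i, algebraMap K _ (c i : K) * v i := by
    intro c
    rw [map_sum τ, map_sum]
    refine Finset.sum_congr rfl fun i _ => ?_
    show Ideal.Quotient.mk J (bc A B.val (c i • w₀ i)) = _
    rw [bc_smul, hw₀, Algebra.smul_def, map_mul, hw]
    rfl
  have hB : HasBasis n JB := by
    refine ⟨fun i => Ideal.Quotient.mk JB (w₀ i), ?_⟩
    have e : (fun c : Fin n → ↥B => ∑ i, algebraMap ↥B ((↥B ⊗[k] A) ⧸ JB) (c i) * Ideal.Quotient.mk JB (w₀ i)) =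
        fun c => Ideal.Quotient.mk JB (∑ i, c i • w₀ i) := by
      funext c
      rw [map_sum]
      refine Finset.sum_congr rfl fun i _ => ?_
      rw [Algebra.smul_def, map_mul]
      rfl
    rw [e]
    constructor
    · intro c c' hcc
      have h1 : Ideal.Quotient.mk J (τ (∑ i, c i • w₀ i)) = Ideal.Quotient.mk J (τ (∑ i, c' i • w₀ i)) := by
        rw [Ideal.Quotient.eq, ← map_sub]
        exact Ideal.Quotient.eq.1 hcc
      rw [hsum, hsum] at h1
      have h2 := hv.1 h1
      funext i
      exact Subtype.ext (congrFun h2 i)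
    · intro q
      obtain ⟨x, rfl⟩ := Ideal.Quotient.mk_surjective q
      refine ⟨fun j => ⟨d (τ x) j, hcoef x j⟩, Ideal.Quotient.eq.2 ?_⟩
      show τ (_ - x) ∈ J
      rw [map_sub, ← Ideal.Quotient.eq, hsum, hd (τ x)]
  exact ⟨B, JB, hBft, hB, eq_of_le (hasBasis_map _ hB) h Ideal.map_comap_le⟩

/-- A nonempty configuration contains one with one point less. -/
theorem exists_sub [IsAlgClosed k] [Algebra.FiniteType k A] {J : Ideal (k ⊗[k] A)} (h : HasBasis (n + 1) J) :
    ∃ (J' : Ideal (k ⊗[k] A)) (y : A →ₐ[k] k), IsExtn n J' J y := by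
  classical
  obtain ⟨hfin, hn⟩ := finrank_quot_eq h
  let Q := (k ⊗[k] A) ⧸ J
  haveI : Module.Finite k Q := hfin
  haveI : IsArtinianRing Q := IsArtinianRing.of_finite k Q
  haveI : Nontrivial Q := Module.nontrivial_of_finrank_pos (R := k) (by rw [hn]; omega)
  obtain ⟨P, hP, -⟩ := exists_le_isAssociatedPrime_of_isNoetherianRing (R := Q) (M := Q) 1 one_ne_zero
  obtain ⟨hPp, s, hs⟩ := isAssociatedPrime_iff.1 hP
  haveI : P.IsMaximal := IsArtinianRing.isMaximal_of_isPrime P
  have hs0 : s ≠ 0 := by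
    rintro rfl
    exact hPp.ne_top ((Ideal.eq_top_iff_one _).2 (hs ▸ Submodule.mem_colon_singleton.2 (by simp)))
  let m : Ideal (k ⊗[k] A) := P.comap (Ideal.Quotient.mk J)
  haveI : m.IsMaximal := Ideal.comap_isMaximal_of_surjective _ Ideal.Quotient.mk_surjective
  let F := (k ⊗[k] A) ⧸ m
  letI : Field F := Ideal.Quotient.field m
  haveI : Algebra.FiniteType k F := .trans (R := k) (S := k ⊗[k] A) inferInstance inferInstance
  haveI : Module.Finite k F := finite_of_finite_type_of_isJacobsonRing k F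
  let e := AlgEquiv.ofBijective (Algebra.ofId k F) IsAlgClosed.algebraMap_bijective_of_isIntegral
  let χ : k ⊗[k] A →ₐ[k] k := e.symm.toAlgHom.comp (Ideal.Quotient.mkₐ k m)
  let y : A →ₐ[k] k := χ.comp Algebra.TensorProduct.includeRight
  have hev : ev y = χ := by
    refine Algebra.TensorProduct.ext' fun c a => ?_
    have e1 : c ⊗ₜ[k] a = c • ((1 : k) ⊗ₜ[k] a) := by rw [TensorProduct.smul_tmul', smul_eq_mul, mul_one]
    rw [e1, map_smul, map_smul]
    simp [y]
  have hker : ∀ x, ev y x = 0 ↔ Ideal.Quotient.mk J x ∈ P := fun x => by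
    rw [hev]
    exact (map_eq_zero_iff _ e.symm.injective).trans Ideal.Quotient.eq_zero_iff_mem
  obtain ⟨s₀, rfl⟩ := Ideal.Quotient.mk_surjective s
  have hmul : ∀ x ∈ RingHom.ker (ev y), x * s₀ ∈ J := by
    intro x hx
    have := (hker x).1 hx
    rw [hs, Submodule.mem_colon_singleton, Submodule.mem_bot, smul_eq_mul, ← map_mul,
      Ideal.Quotient.eq_zero_iff_mem] at this
    exact this
  let S : Submodule k (k ⊗[k] A) := J.restrictScalars k ⊔ k ∙ s₀
  let J' : Ideal (k ⊗[k] A) :=
    { carrier := S, add_mem' := S.add_mem, zero_mem' := S.zero_mem,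
      smul_mem' := fun r x hx => by
        obtain ⟨z, hz, t, ht, rfl⟩ := Submodule.mem_sup.1 hx
        obtain ⟨c, rfl⟩ := Submodule.mem_span_singleton.1 ht
        have e : r • (z + c • s₀) = (r * z + c • ((r - algebraMap k _ (ev y r)) * s₀)) + (c * ev y r) • s₀ := by
          simp only [smul_eq_mul, Algebra.smul_def, map_mul]; ring
        show r • (z + c • s₀) ∈ S
        rw [e]
        exact add_mem (Submodule.mem_sup_left (add_mem (J.mul_mem_left r hz)
          (Submodule.smul_mem (J.restrictScalars k) c (hmul _ (sub_ev_mem y r)))))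
          (Submodule.mem_sup_right (Submodule.mem_span_singleton.2 ⟨_, rfl⟩)) }
  have hle : J ≤ J' := fun x hx => show x ∈ S from Submodule.mem_sup_left hx
  haveI : Module.Finite k ((k ⊗[k] A) ⧸ J') :=
    Module.Finite.of_surjective (Ideal.Quotient.factorₐ k hle).toLinearMap (Ideal.Quotient.factor_surjective hle)
  have hJ' : HasBasis n J' := by
    refine hasBasis_of_finrank ?_
    let q : Q →ₗ[k] (k ⊗[k] A) ⧸ J' := (Ideal.Quotient.factorₐ k hle).toLinearMap
    have hq : Function.Surjective q := Ideal.Quotient.factor_surjective hle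
    have hk : LinearMap.ker q = k ∙ (Ideal.Quotient.mk J s₀) := by
      refine le_antisymm (fun z hz => ?_) ?_
      · obtain ⟨z, rfl⟩ := Ideal.Quotient.mk_surjective z
        have hzS : z ∈ S := (Ideal.Quotient.eq_zero_iff_mem (I := J')).1 hz
        obtain ⟨z', hz', t, ht, rfl⟩ := Submodule.mem_sup.1 hzS
        obtain ⟨c, rfl⟩ := Submodule.mem_span_singleton.1 ht
        refine Submodule.mem_span_singleton.2 ⟨c, ?_⟩
        rw [map_add, Ideal.Quotient.eq_zero_iff_mem.2 hz', zero_add]
        exact (map_smul (Ideal.Quotient.mkₐ k J) c s₀).symm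
      · rw [Submodule.span_singleton_le_iff_mem]
        exact (Ideal.Quotient.eq_zero_iff_mem (I := J')).2
          (show s₀ ∈ S from Submodule.mem_sup_right (Submodule.mem_span_singleton_self _))
    have h1 := LinearMap.finrank_range_add_finrank_ker q
    rw [hk, LinearMap.range_eq_top.2 hq, finrank_top, finrank_span_singleton hs0, hn] at h1
    omega
  refine ⟨J', y, hJ', h, hle, Ideal.mul_le.2 fun x hx z hz => ?_⟩
  obtain ⟨z', hz', t, ht, rfl⟩ := Submodule.mem_sup.1 (show z ∈ S from hz)
  obtain ⟨c, rfl⟩ := Submodule.mem_span_singleton.1 ht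
  rw [mul_add, mul_smul_comm]
  exact add_mem (J.mul_mem_left _ hz') (Submodule.smul_of_tower_mem J c (hmul x hx))

end Groth.Agent.HilbConn
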